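import Mathlib
import Groth.Agent.CAlgH3.ExtBaseChange

/-! `Ext¹` of monomial modules over the monomial ring of a cubical semigroup. -/

set_option autoImplicit false
set_option backward.isDefEq.respectTransparency false

universe u

open CategoryTheory CategoryTheory.Abelian

namespace Groth.Agent.CubicalExt15

theorem length_eq_of_bijective {R S : Type*} [Ring R] [Ring S] {σ : R →+* S} [RingHomSurjective σ]
    {M N : Type*} [AddCommGroup M] [Module R M] [AddCommGroup N] [Module S N] (f : M →ₛₗ[σ] N)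
    (hf : Function.Bijective f) : Module.length R M = Module.length S N := by
  rw [← WithBot.coe_inj, Module.coe_length, Module.coe_length]
  exact Order.krullDim_eq_of_orderIso (Submodule.orderIsoMapComapOfBijective f hf)

theorem length_eq_of_ker {R : Type*} [Ring R] {S : Type*} [Ring S] {σ : R →+* S}
    [RingHomSurjective σ] {H : Type*} [AddCommGroup H] [Module R H] {X : Type*} [AddCommGroup X]
    [Module S X] (f : H →ₛₗ[σ] X) (hf : Function.Surjective f) (W : Submodule R H)
    (hW : ∀ x, f x = 0 ↔ x ∈ W) : Module.length R (H ⧸ W) = Module.length S X := by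
  refine length_eq_of_bijective (W.liftQ f fun x hx => (hW x).2 hx) ⟨?_, ?_⟩
  · rw [← LinearMap.ker_eq_bot, Submodule.eq_bot_iff]
    intro x hx
    obtain ⟨x, rfl⟩ := Submodule.Quotient.mk_surjective W x
    exact (Submodule.Quotient.mk_eq_zero W).2 ((hW x).1 hx)
  · intro y
    obtain ⟨x, rfl⟩ := hf y
    exact ⟨Submodule.Quotient.mk x, rfl⟩

variable {k : Type u} [Field k] {n : ℕ} {A : Subalgebra k (PowerSeries k)}

local notation "P" => PowerSeries k
local notation "t" => (PowerSeries.X : PowerSeries k)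

/-- `A` consists of the power series without terms of degree `1, …, n - 1`. -/
def IsCubical (n : ℕ) (A : Subalgebra k (PowerSeries k)) : Prop :=
  ∀ f : PowerSeries k, f ∈ A ↔ ∀ m : ℕ, PowerSeries.coeff m f ≠ 0 → (m = 0 ∨ n ≤ m)

theorem mem_of_dvd (hA : IsCubical n A) {f : P} (h : t ^ n ∣ f) : f ∈ A := by
  rw [hA]
  intro m hm
  refine Or.inr ?_
  by_contra hlt
  exact hm (PowerSeries.X_pow_dvd_iff.1 h m (not_le.1 hlt))

theorem sub_C_dvd (hA : IsCubical n A) (a : A) :
    t ^ n ∣ (a : P) - PowerSeries.C (PowerSeries.constantCoeff (a : P)) := by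
  rw [PowerSeries.X_pow_dvd_iff]
  intro m hm
  rw [map_sub, PowerSeries.coeff_C]
  split_ifs with h
  · subst h
    rw [PowerSeries.coeff_zero_eq_constantCoeff, sub_self]
  · rw [sub_zero]
    by_contra hne
    rcases (hA _).1 a.2 m hne with h' | h'
    · exact h h'
    · omega

/-- The residue map of `A`. -/
noncomputable def ev (A : Subalgebra k (PowerSeries k)) : A →+* k :=
  (PowerSeries.constantCoeff (R := k)).comp A.val.toRingHom

theorem ev_apply (a : A) : ev A a = PowerSeries.constantCoeff (a : P) := rfl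

instance : RingHomSurjective (ev A) := ⟨fun c => ⟨algebraMap k A c, by
  rw [ev_apply, Subalgebra.coe_algebraMap, PowerSeries.algebraMap_apply,
    PowerSeries.constantCoeff_C]; rfl⟩⟩

theorem coeff_mul_of_dvd (hA : IsCubical n A) (a : A) {u : P} {m : ℕ} (hu : t ^ m ∣ u) {p : ℕ}
    (hp : p < n + m) : PowerSeries.coeff p ((a : P) * u) = ev A a * PowerSeries.coeff p u := by
  have h := PowerSeries.X_pow_dvd_iff.1
    (show t ^ (n + m) ∣ ((a : P) - PowerSeries.C (ev A a)) * u by
      rw [pow_add]; exact mul_dvd_mul (sub_C_dvd hA a) hu) p hp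
  rw [sub_mul, map_sub, sub_eq_zero, PowerSeries.coeff_C_mul] at h
  exact h

/-- Multiplication by `t ^ n`, as a map into `A`. -/
noncomputable def toA (hA : IsCubical n A) : P →ₗ[A] A where
  toFun h := ⟨t ^ n * h, mem_of_dvd hA (dvd_mul_right _ _)⟩
  map_add' x y := Subtype.ext (mul_add _ _ _)
  map_smul' a x := Subtype.ext (show t ^ n * ((a : P) * x) = (a : P) * (t ^ n * x) by ring)

theorem coe_toA (hA : IsCubical n A) (h : P) : (toA hA h : P) = t ^ n * h := rfl

theorem linearMap_apply (hA : IsCubical n A) (f : P →ₗ[A] P) (h : P) : f h = h * f 1 := by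
  have h1 : f (t ^ n * h) = t ^ n * f h := by
    have := f.map_smul (toA hA 1) h
    simpa [Subalgebra.smul_def, coe_toA, mul_one] using this
  have h2 : f (t ^ n * h) = t ^ n * h * f 1 := by
    have := f.map_smul (toA hA h) 1
    simpa [Subalgebra.smul_def, coe_toA, mul_one] using this
  refine mul_left_cancel₀ (pow_ne_zero n PowerSeries.X_ne_zero) ?_
  rw [← h1, h2, mul_assoc]

/-- The series supported in degrees `0`, `g r`, and `≥ n`. -/
def Mon (hA : IsCubical n A) {i : ℕ} (g : Fin i → ℕ) : Submodule A P where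
  carrier := {f | ∀ p, p < n → p ≠ 0 → (∀ r, g r ≠ p) → PowerSeries.coeff p f = 0}
  zero_mem' := fun p _ _ _ => map_zero _
  add_mem' := fun {a b} ha hb p h1 h2 h3 => by rw [map_add, ha p h1 h2 h3, hb p h1 h2 h3, add_zero]
  smul_mem' := fun a f hf p h1 h2 h3 => by
    rw [Subalgebra.smul_def, smul_eq_mul, coeff_mul_of_dvd hA a (m := 0) (one_dvd _) (by omega),
      hf p h1 h2 h3, mul_zero]

theorem mem_Mon (hA : IsCubical n A) {i : ℕ} (g : Fin i → ℕ) (f : P) :
    f ∈ Mon hA g ↔ ∀ p, p < n → p ≠ 0 → (∀ r, g r ≠ p) → PowerSeries.coeff p f = 0 := Iff.rfl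

theorem span_eq_Mon (hA : IsCubical n A) {i : ℕ} (g : Fin i → ℕ) (hinj : Function.Injective g) :
    Submodule.span A ({1} ∪ Set.range fun r => t ^ g r) = Mon hA g := by
  classical
  refine le_antisymm (Submodule.span_le.2 ?_) fun f hf => ?_
  · rintro x (rfl | ⟨r, rfl⟩) <;> intro p _ h0 hr
    · simp [PowerSeries.coeff_one, h0]
    · simp [PowerSeries.coeff_X_pow, Ne.symm (hr r)]
  · set c : Fin i → A := fun r => algebraMap k A (PowerSeries.coeff (g r) f)
    set s : P := ∑ r, PowerSeries.C (PowerSeries.coeff (g r) f) * t ^ g r with hs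
    have hsm : s ∈ Submodule.span A ({1} ∪ Set.range fun r => t ^ g r) := by
      refine Submodule.sum_mem _ fun r _ => ?_
      have : PowerSeries.C (PowerSeries.coeff (g r) f) * t ^ g r = c r • t ^ g r := by
        rw [Subalgebra.smul_def, smul_eq_mul]; rfl
      rw [this]
      exact Submodule.smul_mem _ _ (Submodule.subset_span (Or.inr ⟨r, rfl⟩))
    have hdiff : f - s ∈ A := by
      rw [hA]
      intro p hp
      by_contra hcon
      push Not at hcon
      apply hp
      rw [map_sub, hs, map_sum]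
      simp only [PowerSeries.coeff_C_mul, PowerSeries.coeff_X_pow, mul_ite, mul_one, mul_zero]
      by_cases hex : ∃ r, g r = p
      · obtain ⟨r, rfl⟩ := hex
        rw [Finset.sum_eq_single r (fun b _ hb => if_neg fun h => hb (hinj h.symm))
          (fun h => absurd (Finset.mem_univ r) h), if_pos rfl, sub_self]
      · rw [hf p hcon.2 hcon.1 (fun r h => hex ⟨r, h⟩),
          Finset.sum_eq_zero (fun b _ => if_neg fun h => hex ⟨b, h.symm⟩), sub_zero]
    have : f = (⟨f - s, hdiff⟩ : A) • (1 : P) + s := by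
      rw [Subalgebra.smul_def, smul_eq_mul, mul_one]; ring
    rw [this]
    exact add_mem (Submodule.smul_mem _ _ (Submodule.subset_span (Or.inl rfl))) hsm

set_option maxHeartbeats 1000000 in
theorem length_ext (hA : IsCubical n A) {i : ℕ} (g : Fin i → ℕ) (hinj : Function.Injective g)
    (hg0 : ∀ r, g r ≠ 0) (hgn : ∀ r, g r < n) {M : Type u} [AddCommGroup M] [Module A M]
    (j : M →ₗ[A] P) (hj : Function.Injective j) (hjr : LinearMap.range j = Mon hA g) (m : ℕ)
    (hC : ∀ u : P, (∀ h : P, h * u ∈ Mon hA g) ↔ t ^ m ∣ u)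
    {X : Type u} [AddCommGroup X] [Module k X] (q : (Fin i → P) →ₗ[k] X)
    (hq0 : ∀ u : Fin i → P, (∀ r, t ^ (n + m) ∣ u r) → q u = 0)
    (hqs : ∀ x : X, ∃ u : Fin i → P, (∀ r, t ^ m ∣ u r) ∧ q u = x)
    (hqk : ∀ u : Fin i → P, (∀ r, t ^ m ∣ u r) → (q u = 0 ↔ ∃ (n₀ : P) (nn : Fin i → P),
      n₀ ∈ Mon hA g ∧ (∀ r, nn r ∈ Mon hA g) ∧ ∀ r, u r = t ^ n * (nn r - t ^ g r * n₀))) :
    Module.length A (Ext (ModuleCat.of A M) (ModuleCat.of A M) 1) = Module.length k X := by
  classical
  have hmem : ∀ x, x ∈ Mon hA g ↔ ∃ y, j y = x := fun x => by rw [← hjr]; rfl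
  have h1 : (1 : P) ∈ Mon hA g := by
    rw [← span_eq_Mon hA g hinj]; exact Submodule.subset_span (Or.inl rfl)
  have hgm : ∀ r, t ^ g r ∈ Mon hA g := fun r => by
    rw [← span_eq_Mon hA g hinj]; exact Submodule.subset_span (Or.inr ⟨r, rfl⟩)
  obtain ⟨e₀, he₀⟩ := (hmem _).1 h1
  choose e he using fun r => (hmem _).1 (hgm r)
  let π : (A × (Fin i → A)) →ₗ[A] M :=
    (LinearMap.toSpanSingleton A M e₀).coprod (Fintype.linearCombination A e)
  have hπj : ∀ (a : A) (b : Fin i → A),
      j (π (a, b)) = (a : P) + ∑ r, (b r : P) * t ^ g r := by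
    intro a b
    simp [π, Fintype.linearCombination_apply, he₀, he, Subalgebra.smul_def]
  let ι : (Fin i → P) →ₗ[A] A × (Fin i → A) :=
    (- (toA hA) ∘ₗ (∑ r, (LinearMap.mulRight A (t ^ g r)) ∘ₗ LinearMap.proj r)).prod
      (LinearMap.pi fun r => toA hA ∘ₗ LinearMap.proj r)
  have hι1 : ∀ h, ((ι h).1 : P) = -(t ^ n * ∑ r, h r * t ^ g r) := by
    intro h
    simp [ι, coe_toA, LinearMap.sum_apply, Finset.mul_sum]
  have hι2 : ∀ h r, ((ι h).2 r : P) = t ^ n * h r := fun h r => rfl
  have hιinj : Function.Injective ι := by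
    intro x y hxy
    funext r
    have := congrArg (fun z : A × (Fin i → A) => (z.2 r : P)) hxy
    simp only [hι2] at this
    exact mul_left_cancel₀ (pow_ne_zero n PowerSeries.X_ne_zero) this
  have hπs : Function.Surjective π := by
    intro y
    have hy : j y ∈ Submodule.span A ({1} ∪ Set.range fun r => t ^ g r) := by
      rw [span_eq_Mon hA g hinj]; exact (hmem _).2 ⟨y, rfl⟩
    rw [Submodule.span_union, Submodule.mem_sup] at hy
    obtain ⟨y1, hy1, y2, hy2, hsum⟩ := hy
    obtain ⟨a, rfl⟩ := Submodule.mem_span_singleton.1 hy1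
    obtain ⟨b, rfl⟩ := (Submodule.mem_span_range_iff_exists_fun A).1 hy2
    refine ⟨(a, b), hj ?_⟩
    rw [hπj, ← hsum]
    simp [Subalgebra.smul_def]
  have hex : Function.Exact ι π := by
    rintro ⟨a, b⟩
    constructor
    · intro h0
      have h := congrArg j h0
      rw [hπj, map_zero] at h
      have hc : ∀ r, PowerSeries.constantCoeff (b r : P) = 0 := by
        intro r
        have hc := congrArg (PowerSeries.coeff (g r)) h
        rw [map_add, map_sum, map_zero] at hc
        have ha : PowerSeries.coeff (g r) (a : P) = 0 := by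
          by_contra hne
          rcases (hA _).1 a.2 _ hne with h' | h'
          · exact hg0 r h'
          · exact absurd h' (not_le.2 (hgn r))
        rw [ha, zero_add, Finset.sum_eq_single r] at hc
        · rwa [coeff_mul_of_dvd hA (b r) (m := 0) (one_dvd _) (by have := hgn r; omega),
            PowerSeries.coeff_X_pow_self, mul_one, ev_apply] at hc
        · intro s _ hs
          rw [coeff_mul_of_dvd hA (b s) (m := 0) (one_dvd _) (by have := hgn r; omega),
            PowerSeries.coeff_X_pow, if_neg (fun h' => hs (hinj h'.symm)), mul_zero]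
        · exact fun h' => absurd (Finset.mem_univ r) h'
      have hd : ∀ r, t ^ n ∣ (b r : P) := fun r => by
        simpa [hc r] using sub_C_dvd hA (b r)
      choose h' hh' using hd
      refine ⟨h', Prod.ext (Subtype.ext ?_) (funext fun r => Subtype.ext ?_)⟩
      · show ((ι h').1 : P) = (a : P)
        rw [hι1, eq_neg_of_add_eq_zero_left h, Finset.mul_sum]
        simp only [hh', mul_assoc]
      · exact (hι2 h' r).trans (hh' r).symm
    · rintro ⟨h, hh⟩
      rw [← hh]
      apply hj
      rw [show ι h = ((ι h).1, (ι h).2) from rfl, hπj, map_zero, hι1]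
      simp only [hι2, mul_assoc, ← Finset.mul_sum, neg_add_cancel]
  obtain ⟨p, hp, hker⟩ := CAlgH3.exists_ext_one_presentation M hιinj hπs hex
  rw [← (p.quotKerEquivOfSurjective hp).length_eq, hker]
  let U : ((Fin i → P) →ₗ[A] M) → Fin i → P := fun φ r => j (φ (Pi.single r 1))
  have hUval : ∀ (φ : (Fin i → P) →ₗ[A] M) r h, j (φ (Pi.single r h)) = h * U φ r := by
    intro φ r h
    exact linearMap_apply hA (j ∘ₗ φ ∘ₗ LinearMap.single A (fun _ : Fin i => P) r) h
  have hUd : ∀ φ r, t ^ m ∣ U φ r := by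
    intro φ r
    refine (hC _).1 fun h => ?_
    rw [← hUval]
    exact (hmem _).2 ⟨_, rfl⟩
  let F : ((Fin i → P) →ₗ[A] M) →ₛₗ[ev A] X :=
    { toFun := fun φ => q (U φ)
      map_add' := fun φ ψ => by
        rw [← map_add]
        exact congrArg q (funext fun r => map_add j _ _)
      map_smul' := fun a φ => by
        show q (U (a • φ)) = ev A a • q (U φ)
        have hU : U (a • φ) = fun r => (a : P) * U φ r := funext fun r => map_smul j a _
        rw [← map_smul, ← sub_eq_zero, ← map_sub]
        refine hq0 _ fun r => ?_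
        rw [hU]
        show t ^ (n + m) ∣ (a : P) * U φ r - ev A a • U φ r
        rw [PowerSeries.smul_eq_C_mul, ← sub_mul, pow_add]
        exact mul_dvd_mul (sub_C_dvd hA a) (hUd φ r) }
  refine length_eq_of_ker F (fun x => ?_) _ fun φ => ?_
  · obtain ⟨u, hu, hux⟩ := hqs x
    let L : (Fin i → P) →ₗ[A] P := ∑ r, (LinearMap.mulRight A (u r)) ∘ₗ LinearMap.proj r
    have hL : ∀ h, L h ∈ LinearMap.range j := by
      intro h
      rw [hjr]
      simp only [L, LinearMap.sum_apply, LinearMap.comp_apply, LinearMap.proj_apply,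
        LinearMap.mulRight_apply]
      exact Submodule.sum_mem _ fun r _ => (hC _).2 (hu r) _
    let φ : (Fin i → P) →ₗ[A] M :=
      (LinearEquiv.ofInjective j hj).symm.toLinearMap ∘ₗ L.codRestrict _ hL
    have hUφ : U φ = u := by
      funext r
      have : j (φ (Pi.single r 1)) = L (Pi.single r 1) :=
        congrArg Subtype.val
          ((LinearEquiv.ofInjective j hj).apply_symm_apply ⟨L (Pi.single r 1), hL _⟩)
      rw [show U φ r = j (φ (Pi.single r 1)) from rfl, this]
      simp only [L, LinearMap.sum_apply, LinearMap.comp_apply, LinearMap.proj_apply,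
        LinearMap.mulRight_apply]
      rw [Finset.sum_eq_single r (fun b _ hb => by rw [Pi.single_eq_of_ne hb, zero_mul])
        (fun h' => absurd (Finset.mem_univ r) h'), Pi.single_eq_same, one_mul]
    exact ⟨φ, by show q (U φ) = x; rw [hUφ, hux]⟩
  · show q (U φ) = 0 ↔ _
    rw [hqk _ (hUd φ)]
    have hcomp : ∀ (ψ : (A × (Fin i → A)) →ₗ[A] M) r (h : P), j (ψ (ι (Pi.single r h))) =
        h * (t ^ n * (j (ψ (0, Pi.single r 1)) - t ^ g r * j (ψ (1, 0)))) := by
      intro ψ r h
      have e1 : ι (Pi.single r h) = (-toA hA (h * t ^ g r)) • ((1, 0) : A × (Fin i → A)) +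
          toA hA h • ((0, Pi.single r 1) : A × (Fin i → A)) := by
        refine Prod.ext ?_ ?_
        · apply Subtype.ext
          rw [hι1, Finset.sum_eq_single r (fun b _ hb => by rw [Pi.single_eq_of_ne hb, zero_mul])
            (fun h' => absurd (Finset.mem_univ r) h'), Pi.single_eq_same]
          simp [coe_toA]
        · funext s
          apply Subtype.ext
          rw [hι2]
          by_cases hs : s = r
          · subst hs; simp [coe_toA]
          · simp [Pi.single_eq_of_ne hs]
      rw [e1, ψ.map_add, ψ.map_smul, ψ.map_smul, j.map_add, j.map_smul, j.map_smul]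
      simp only [Subalgebra.smul_def, smul_eq_mul, NegMemClass.coe_neg, coe_toA]
      ring
    constructor
    · rintro ⟨n₀, nn, hn₀, hnn, hu⟩
      obtain ⟨y₀, hy₀⟩ := (hmem _).1 hn₀
      choose y hy using fun r => (hmem _).1 (hnn r)
      refine ⟨(LinearMap.toSpanSingleton A M y₀).coprod (Fintype.linearCombination A y), ?_⟩
      apply LinearMap.pi_ext
      intro r h
      apply hj
      rw [LinearMap.lcomp_apply, hcomp, hUval, hu]
      simp [Fintype.linearCombination_apply_single, hy₀, hy]
    · rintro ⟨ψ, rfl⟩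
      refine ⟨j (ψ (1, 0)), fun r => j (ψ (0, Pi.single r 1)), (hmem _).2 ⟨_, rfl⟩,
        fun r => (hmem _).2 ⟨_, rfl⟩, fun r => ?_⟩
      rw [show U (ι.lcomp A M ψ) r = j (ψ (ι (Pi.single r 1))) from rfl, hcomp, one_mul]

end Groth.Agent.CubicalExt15
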