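import Mathlib
import Groth.Agent.CAlgH3.ExtBaseChange

/-! Value sets of duals into a canonical ideal of a unibranch curve singularity. -/

set_option autoImplicit false
set_option backward.isDefEq.respectTransparency false
set_option synthInstance.maxHeartbeats 200000
set_option maxHeartbeats 1000000

universe u

open CategoryTheory CategoryTheory.Abelian

namespace Groth.Agent.CubicalExt15.Canonical

variable {k : Type u} [Field k] {A : Subalgebra k (PowerSeries k)}

local notation "P" => PowerSeries k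
local notation "t" => (PowerSeries.X : PowerSeries k)

noncomputable local instance (T : Submodule A (PowerSeries k)) : AddCommGroup T := T.addCommGroup

theorem pow_dvd_mem_of_orders (hcl : ∀ f : P, (∀ n : ℕ, ∃ g ∈ A, (n : ℕ∞) ≤ PowerSeries.order (f - g)) → f ∈ A)
    (c : ℕ) (hc : ∀ n : ℕ, c ≤ n → ∃ f ∈ A, PowerSeries.order f = n) {f : P} (hf : t ^ c ∣ f) :
    f ∈ A := by
  refine hcl f fun n => ?_
  suffices h : ∀ e, ∃ g ∈ A, t ^ (c + e) ∣ f - g by
    obtain ⟨g, hg, hd⟩ := h n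
    exact ⟨g, hg, PowerSeries.nat_le_order _ _ fun i hi =>
      PowerSeries.X_pow_dvd_iff.1 hd i (by omega)⟩
  intro e
  induction e with
  | zero => exact ⟨0, A.zero_mem, by simpa using hf⟩
  | succ e ih =>
    obtain ⟨g, hg, hd⟩ := ih
    obtain ⟨h, hh, hho⟩ := hc (c + e) (Nat.le_add_right _ _)
    obtain ⟨h1, h2⟩ := PowerSeries.order_eq_nat.1 hho
    refine ⟨g + PowerSeries.C (PowerSeries.coeff (c + e) (f - g) / PowerSeries.coeff (c + e) h) * h,
      A.add_mem hg (A.mul_mem (A.algebraMap_mem _) hh), PowerSeries.X_pow_dvd_iff.2 fun i hi => ?_⟩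
    rw [show f - (g + PowerSeries.C (PowerSeries.coeff (c + e) (f - g) /
      PowerSeries.coeff (c + e) h) * h) = (f - g) - PowerSeries.C (PowerSeries.coeff (c + e) (f - g) /
      PowerSeries.coeff (c + e) h) * h by ring, map_sub, PowerSeries.coeff_C_mul]
    rcases eq_or_lt_of_le (Nat.lt_succ_iff.1 (show i < (c + e) + 1 by omega)) with rfl | hlt
    · rw [div_mul_cancel₀ _ h1, sub_self]
    · rw [PowerSeries.X_pow_dvd_iff.1 hd i hlt, h2 i hlt, mul_zero, sub_zero]

/-- The standing hypotheses: `t ^ c k[[t]] ⊆ A` and `k[[t]]` is finite over `A`. -/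
structure Setting (A : Subalgebra k (PowerSeries k)) (c : ℕ) : Prop where
  fin : Module.Finite A (PowerSeries k)
  cond : ∀ f : PowerSeries k, PowerSeries.X ^ c ∣ f → f ∈ A

variable {c : ℕ}

theorem mul_mem' {ω : Submodule A P} {x : P} (hx : x ∈ ω) (a : A) : (a : P) * x ∈ ω :=
  ω.smul_mem a hx

theorem cond_mem (hS : Setting A c) {ω : Submodule A P} (h1 : (1 : P) ∈ ω) {f : P}
    (hf : t ^ c ∣ f) : f ∈ ω := by
  simpa using mul_mem' h1 ⟨f, hS.cond f hf⟩

theorem apply_eq_mul (hS : Setting A c) {N : Submodule A P} (h1 : (1 : P) ∈ N) (φ : N →ₗ[A] P)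
    (x : N) : φ x = (x : P) * φ ⟨1, h1⟩ := by
  have h2 : (⟨t ^ c * (x : P), hS.cond _ (dvd_mul_right _ _)⟩ : A) • (⟨1, h1⟩ : N) =
      (⟨t ^ c, hS.cond _ dvd_rfl⟩ : A) • x :=
    Subtype.ext (show t ^ c * (x : P) * 1 = t ^ c * (x : P) by ring)
  have h3 := congrArg φ h2
  rw [φ.map_smul, φ.map_smul] at h3
  simp only [Subalgebra.smul_def, smul_eq_mul] at h3
  refine mul_left_cancel₀ (pow_ne_zero c PowerSeries.X_ne_zero) ?_
  rw [← h3, mul_assoc]

theorem ext_one_submodule_eq_zero (hS : Setting A c) (ω : Submodule A P)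
    [HasInjectiveDimensionLT (ModuleCat.of A ω) 2] (N : Submodule A P)
    (x : Ext (ModuleCat.of A N) (ModuleCat.of A ω) 1) : x = 0 := by
  let ι : N →ₗ[A] A :=
    { toFun := fun y => ⟨t ^ c * (y : P), hS.cond _ (dvd_mul_right _ _)⟩
      map_add' := fun y z => Subtype.ext (mul_add _ _ _)
      map_smul' := fun r y => Subtype.ext (show t ^ c * ((r : P) * y) = (r : P) * (t ^ c * y) by ring) }
  have hι : Function.Injective ι := fun y z h => Subtype.ext
    (mul_left_cancel₀ (pow_ne_zero c PowerSeries.X_ne_zero) (congrArg Subtype.val h))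
  let π := (LinearMap.range ι).mkQ
  have hS' : (ShortComplex.mk (ModuleCat.ofHom ι) (ModuleCat.ofHom π)
      (by ext y; exact (Submodule.Quotient.mk_eq_zero _).2 ⟨y, rfl⟩)).ShortExact :=
    { exact := (ShortComplex.ShortExact.moduleCat_exact_iff_function_exact _).2
        (LinearMap.exact_map_mkQ_range ι)
      mono_f := (ModuleCat.mono_iff_injective _).2 hι
      epi_g := (ModuleCat.epi_iff_surjective _).2 (Submodule.mkQ_surjective _) }
  have h2 : Subsingleton (Ext (ModuleCat.of A (A ⧸ LinearMap.range ι)) (ModuleCat.of A ω) 2) :=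
    HasInjectiveDimensionLT.subsingleton (ModuleCat.of A ω) 2 2 le_rfl _
  obtain ⟨y, rfl⟩ := Ext.contravariant_sequence_exact₁ hS' (ModuleCat.of A ω) x
    (show 1 + 1 = 2 from rfl) (h2.elim _ _)
  haveI : Projective (ModuleCat.of A A) := ModuleCat.projective_of_categoryTheory_projective _
  rw [Ext.eq_zero_of_projective y, Ext.comp_zero]

theorem exists_not_mem_t_mul (hS : Setting A c) (ω : Submodule A P) (h1 : (1 : P) ∈ ω) :
    ∃ w : P, (∀ f, f * w ∈ ω) ∧ ∀ y ∈ ω, w ≠ t * y := by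
  by_contra hno
  push Not at hno
  classical
  have hex : ∃ m, ∀ f, f * t ^ m ∈ ω := ⟨c, fun f => cond_mem hS h1 (dvd_mul_left _ _)⟩
  have hm := Nat.find_spec hex
  rcases Nat.eq_zero_or_pos (Nat.find hex) with h0 | hpos
  · rw [h0] at hm
    obtain ⟨y, -, hy⟩ := hno 1 fun f => by simpa using hm f
    have := congrArg PowerSeries.constantCoeff hy
    simp at this
  · refine Nat.find_min hex (Nat.sub_lt hpos Nat.one_pos) fun f => ?_
    obtain ⟨y, hy, hy'⟩ := hno (f * t ^ Nat.find hex) fun g => by rw [← mul_assoc]; exact hm _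
    rwa [show f * t ^ (Nat.find hex - 1) = y from mul_left_cancel₀ PowerSeries.X_ne_zero (by
      rw [← hy', mul_left_comm, ← pow_succ', Nat.sub_add_cancel hpos])]

theorem isUnit_of_constantCoeff_ne_zero (hS : Setting A c) (a : A)
    (ha : PowerSeries.constantCoeff (a : P) ≠ 0) : IsUnit a := by
  haveI := hS.fin
  haveI hint : Algebra.IsIntegral A P := Algebra.IsIntegral.of_finite A P
  haveI : IsLocalHom (algebraMap A P) :=
    RingHom.IsIntegral.isLocalHom (algebraMap_isIntegral_iff.2 hint) Subtype.val_injective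
  refine isUnit_of_map_unit (algebraMap A P) _ ?_
  rw [PowerSeries.isUnit_iff_constantCoeff, isUnit_iff_ne_zero]
  exact ha

theorem exists_ext_simple_ne_zero (hS : Setting A c) (ω : Submodule A P) (h1 : (1 : P) ∈ ω)
    (I : Ideal A) (hI : I.IsMaximal) :
    ∃ x : Ext (ModuleCat.of A (A ⧸ I)) (ModuleCat.of A ω) 1, x ≠ 0 := by
  haveI : Module.Projective A A := inferInstance
  obtain ⟨p, -, hker⟩ := CAlgH3.exists_ext_one_presentation ↥ω (K := I) (F := A)
    (ι := I.subtype) (π := I.mkQ) (Submodule.injective_subtype _) (Submodule.mkQ_surjective _)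
    (LinearMap.exact_subtype_mkQ _)
  obtain ⟨w, hw, hwt⟩ := exists_not_mem_t_mul hS ω h1
  have hd : ∀ a : I, t ∣ ((a : A) : P) := fun a => PowerSeries.X_dvd_iff.2 (by
    by_contra hne
    exact hI.ne_top (Ideal.eq_top_of_isUnit_mem _ a.2 (isUnit_of_constantCoeff_ne_zero hS _ hne)))
  choose d hd' using hd
  let φ : I →ₗ[A] ω :=
    { toFun := fun a => ⟨d a * w, hw _⟩
      map_add' := fun a b => Subtype.ext <| by
        show d (a + b) * w = d a * w + d b * w
        have h := hd' (a + b)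
        rw [Submodule.coe_add, Subalgebra.coe_add, hd' a, hd' b] at h
        refine mul_left_cancel₀ PowerSeries.X_ne_zero ?_
        linear_combination (-w) * h
      map_smul' := fun r a => Subtype.ext <| by
        show d (r • a) * w = (r : P) * (d a * w)
        have h := hd' (r • a)
        rw [Submodule.coe_smul, smul_eq_mul, Subalgebra.coe_mul, hd' a] at h
        refine mul_left_cancel₀ PowerSeries.X_ne_zero ?_
        linear_combination (-w) * h }
  refine ⟨p φ, fun h0 => ?_⟩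
  obtain ⟨ψ, hψ⟩ := hker.le (LinearMap.mem_ker.2 h0)
  let q : A := ⟨t ^ (c + 1), hS.cond _ (pow_dvd_pow _ (Nat.le_succ c))⟩
  have hq : q ∈ I := by
    by_contra hnot
    have hm : q ∈ Ideal.span {q} ⊔ I := Ideal.mem_sup_left (Ideal.mem_span_singleton_self q)
    obtain ⟨x, y, hy, hxy⟩ := hI.exists_inv hnot
    have := congrArg (fun z : A => PowerSeries.constantCoeff (z : P)) hxy
    simp [q] at this
    have hy0 : PowerSeries.constantCoeff (y : P) = 0 := by
      by_contra hne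
      exact hI.ne_top (Ideal.eq_top_of_isUnit_mem _ hy (isUnit_of_constantCoeff_ne_zero hS _ hne))
    simp [hy0] at this
  have h2 := congrArg (fun f : I →ₗ[A] ω => (f ⟨q, hq⟩ : P)) hψ
  have hψ1 : (ψ q : P) = (q : P) * (ψ 1 : P) := by
    have := congrArg Subtype.val (ψ.map_smul q 1)
    rw [smul_eq_mul, mul_one] at this
    exact this
  refine hwt _ (ψ 1).2 ?_
  refine mul_left_cancel₀ (pow_ne_zero c (PowerSeries.X_ne_zero (R := k))) ?_
  have h3 : d ⟨q, hq⟩ = t ^ c := mul_left_cancel₀ PowerSeries.X_ne_zero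
    ((hd' ⟨q, hq⟩).symm.trans (pow_succ' _ _))
  change (ψ q : P) = d ⟨q, hq⟩ * w at h2
  rw [hψ1, h3] at h2
  rw [← h2]
  show t ^ (c + 1) * _ = _
  ring

theorem exists_not_extend (hS : Setting A c) (ω : Submodule A P) (h1 : (1 : P) ∈ ω)
    [HasInjectiveDimensionLT (ModuleCat.of A ω) 2] (N N' : Submodule A P) (hfg : N'.FG)
    (hlt : N < N') (b : ℕ) (hb : ∀ f : P, t ^ b ∣ f → f ∈ N) :
    ∃ φ : N →ₗ[A] ω, ∀ ψ : N' →ₗ[A] ω, ψ ∘ₗ Submodule.inclusion hlt.le ≠ φ := by
  by_contra hno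
  push Not at hno
  haveI : Module.Finite A N' := Module.Finite.iff_fg.2 hfg
  let W : Submodule A N' := N.comap N'.subtype
  have hW : W ≠ ⊤ := fun h => hlt.not_ge fun x hx => by
    have := h.ge (show (⟨x, hx⟩ : N') ∈ ⊤ from trivial)
    exact this
  obtain ⟨W', hW', hWW'⟩ := (eq_top_or_exists_le_coatom W).resolve_left hW
  haveI : IsSimpleModule A (N' ⧸ W') := isSimpleModule_iff_isCoatom.2 hW'
  obtain ⟨I, hI, ⟨e⟩⟩ := (isSimpleModule_iff_quot_maximal (R := A) (M := N' ⧸ W')).1 inferInstance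
  obtain ⟨x, hx⟩ := exists_ext_simple_ne_zero hS ω h1 I hI
  apply hx
  let i := e.toModuleIso
  letI : AddCommGroup W' := W'.addCommGroup
  have hS' : (ShortComplex.mk (ModuleCat.ofHom W'.subtype) (ModuleCat.ofHom W'.mkQ)
      (ModuleCat.hom_ext (LinearMap.ext fun y => (Submodule.Quotient.mk_eq_zero W').2 y.2))).ShortExact :=
    { exact := (ShortComplex.ShortExact.moduleCat_exact_iff_function_exact _).2
        (LinearMap.exact_subtype_mkQ _)
      mono_f := (ModuleCat.mono_iff_injective _).2 (Submodule.injective_subtype _)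
      epi_g := (ModuleCat.epi_iff_surjective _).2 (Submodule.mkQ_surjective _) }
  suffices hall : ∀ y : Ext (ModuleCat.of A (N' ⧸ W')) (ModuleCat.of A ω) 1, y = 0 by
    have := hall ((Ext.mk₀ i.hom).comp x (zero_add 1))
    have h4 := congrArg (fun z => (Ext.mk₀ i.inv).comp z (zero_add 1)) this
    simp only [Ext.comp_zero] at h4
    rw [← Ext.comp_assoc_of_second_deg_zero, Ext.mk₀_comp_mk₀, Iso.inv_hom_id,
      Ext.mk₀_id_comp] at h4
    exact h4
  intro y
  obtain ⟨y₁, rfl⟩ := Ext.contravariant_sequence_exact₃ hS' (ModuleCat.of A ω) y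
    (ext_one_submodule_eq_zero hS ω N' _) (show 1 + 0 = 1 from rfl)
  obtain ⟨f, rfl⟩ := (Ext.mk₀_bijective _ _).2 y₁
  let φ : W' →ₗ[A] ω := f.hom
  let j : N →ₗ[A] W' := (Submodule.inclusion hlt.le).codRestrict W' fun z => hWW' z.2
  obtain ⟨ψ, hψ⟩ := hno (φ ∘ₗ j)
  have hext : ∀ z : W', ψ z.1 = φ z := by
    intro z
    let q : A := ⟨t ^ (c + b), hS.cond _ (pow_dvd_pow _ (Nat.le_add_right _ _))⟩
    have hm : t ^ (c + b) * ((z.1 : N') : P) ∈ N :=
      hb _ ((pow_dvd_pow _ (Nat.le_add_left _ _)).mul_right _)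
    have h5 := congrArg (fun g : N →ₗ[A] ω => g ⟨_, hm⟩) hψ
    have hz : j ⟨_, hm⟩ = q • z := Subtype.ext (Subtype.ext rfl)
    have hz' : (Submodule.inclusion hlt.le ⟨_, hm⟩ : N') = q • z.1 := Subtype.ext rfl
    simp only [LinearMap.comp_apply, hz, hz', map_smul] at h5
    refine Subtype.ext (mul_left_cancel₀ (pow_ne_zero (c + b) PowerSeries.X_ne_zero) ?_)
    exact congrArg Subtype.val h5
  have : f = ModuleCat.ofHom W'.subtype ≫ ModuleCat.ofHom ψ := by
    exact ModuleCat.hom_ext (LinearMap.ext fun z => (hext z).symm)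
  rw [this, ← Ext.mk₀_comp_mk₀, ← Ext.comp_assoc_of_second_deg_zero]
  erw [hS'.extClass_comp]
  rw [Ext.zero_comp]

theorem exists_mult_not_extend (hS : Setting A c) (ω : Submodule A P) (h1 : (1 : P) ∈ ω)
    [HasInjectiveDimensionLT (ModuleCat.of A ω) 2] (N N' : Submodule A P) (hN : (1 : P) ∈ N)
    (hfg : N'.FG) (hlt : N < N') (b : ℕ) (hb : ∀ f : P, t ^ b ∣ f → f ∈ N) :
    ∃ u : P, (∀ x ∈ N, u * x ∈ ω) ∧ ¬ ∀ x ∈ N', u * x ∈ ω := by
  obtain ⟨φ, hφ⟩ := exists_not_extend hS ω h1 N N' hfg hlt b hb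
  have hval : ∀ x : N, (φ x : P) = (x : P) * (φ ⟨1, hN⟩ : P) :=
    fun x => apply_eq_mul hS hN (ω.subtype ∘ₗ φ) x
  refine ⟨(φ ⟨1, hN⟩ : P), fun x hx => ?_, fun hall => ?_⟩
  · rw [mul_comm, ← hval ⟨x, hx⟩]; exact (φ _).2
  · refine hφ ((LinearMap.mulLeft A (φ ⟨1, hN⟩ : P) ∘ₗ N'.subtype).codRestrict ω
      fun x => hall x x.2) (LinearMap.ext fun x => Subtype.ext ?_)
    rw [hval x, mul_comm]
    rfl

theorem eq_of_order (f : P) (n : ℕ) (hd : t ^ n ∣ f) (hnd : ¬ t ^ (n + 1) ∣ f) :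
    PowerSeries.order f = n := by
  refine PowerSeries.order_eq_nat.2 ⟨fun h => hnd (PowerSeries.X_pow_dvd_iff.2 fun i hi => ?_),
    fun i hi => PowerSeries.X_pow_dvd_iff.1 hd i hi⟩
  rcases eq_or_lt_of_le (Nat.lt_succ_iff.1 hi) with rfl | hlt
  · exact h
  · exact PowerSeries.X_pow_dvd_iff.1 hd i hlt

theorem exists_unit_mul_of_order {f : P} {n : ℕ} (h : PowerSeries.order f = n) :
    ∃ s : Pˣ, f = t ^ n * (s : P) := by
  obtain ⟨h1, h2⟩ := PowerSeries.order_eq_nat.1 h
  obtain ⟨s, rfl⟩ := PowerSeries.X_pow_dvd_iff.2 h2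
  have hs : IsUnit s := by
    rw [PowerSeries.isUnit_iff_constantCoeff, isUnit_iff_ne_zero]
    intro h0
    apply h1
    rw [PowerSeries.coeff_X_pow_mul', if_pos le_rfl, Nat.sub_self,
      PowerSeries.coeff_zero_eq_constantCoeff, h0]
  exact ⟨hs.unit, rfl⟩

/-- A canonical ideal has conductor `c`. -/
theorem not_pred_conductor (hS : Setting A c) (hc0 : c ≠ 0) (hc1 : ¬ ∃ f ∈ A, PowerSeries.order f = (c - 1 : ℕ))
    (ω : Submodule A P) (h1 : (1 : P) ∈ ω) [HasInjectiveDimensionLT (ModuleCat.of A ω) 2] :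
    ¬ ∀ f : P, t ^ (c - 1) * f ∈ ω := by
  intro hω
  let N : Submodule A P := Submodule.span A {1}
  let N' : Submodule A P := Submodule.span A ({1, t ^ (c - 1)} : Set P)
  have hlt : N < N' := by
    refine lt_of_le_not_ge (Submodule.span_mono (by simp)) fun hle => ?_
    obtain ⟨a, ha⟩ := Submodule.mem_span_singleton.1
      (hle (Submodule.subset_span (Or.inr rfl) : t ^ (c - 1) ∈ N'))
    rw [Subalgebra.smul_def, smul_eq_mul, mul_one] at ha
    exact hc1 ⟨(a : P), a.2, by rw [ha, PowerSeries.order_X_pow]⟩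
  obtain ⟨u, hu, hnu⟩ := exists_mult_not_extend hS ω h1 N N'
    (Submodule.subset_span rfl) (Submodule.fg_span (Set.toFinite _)) hlt c (fun f hf =>
      Submodule.mem_span_singleton.2 ⟨⟨f, hS.cond f hf⟩, by simp [Subalgebra.smul_def]⟩)
  refine hnu fun x hx => ?_
  obtain ⟨a, b, rfl⟩ := Submodule.mem_span_pair.1 hx
  simp only [Subalgebra.smul_def, smul_eq_mul, mul_one]
  rw [show u * ((a : P) + (b : P) * t ^ (c - 1)) = (a : P) * (u * 1) + (b : P) * (t ^ (c - 1) * u) by
    ring]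
  exact add_mem (mul_mem' (hu 1 (Submodule.subset_span rfl)) a) (mul_mem' (hω u) b)

theorem order_dual_iff (hS : Setting A c) (hc0 : c ≠ 0)
    (hc1 : ¬ ∃ f ∈ A, PowerSeries.order f = (c - 1 : ℕ)) (ω : Submodule A P) (h1 : (1 : P) ∈ ω)
    [HasInjectiveDimensionLT (ModuleCat.of A ω) 2] (M : Submodule A P) (hMfg : M.FG)
    (hM1 : (1 : P) ∈ M) (n : ℕ) :
    (∃ u : P, PowerSeries.order u = n ∧ ∀ m ∈ M, u * m ∈ ω) ↔
      (c ≤ n ∨ ¬ ∃ m ∈ M, PowerSeries.order m = ((c - 1 - n : ℕ) : ℕ∞)) := by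
  constructor
  · rintro ⟨u, hu, huM⟩
    by_contra hcon
    push Not at hcon
    obtain ⟨hn, m, hm, hmo⟩ := hcon
    obtain ⟨v, hv⟩ := exists_unit_mul_of_order (n := c - 1) (f := u * m) (by
      rw [PowerSeries.order_mul, hu, hmo, ← Nat.cast_add]; congr 1; omega)
    refine not_pred_conductor hS hc0 hc1 ω h1 fun f => ?_
    set r : k := PowerSeries.constantCoeff ((↑v⁻¹ : P) * f)
    obtain ⟨g, hg⟩ : t ∣ f - PowerSeries.C r * (v : P) := PowerSeries.X_dvd_iff.2 (by
      rw [map_sub, map_mul, PowerSeries.constantCoeff_C,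
        show r = PowerSeries.constantCoeff (↑v⁻¹ : P) * PowerSeries.constantCoeff f from map_mul _ _ _,
        mul_right_comm, ← map_mul, Units.inv_mul, map_one, one_mul, sub_self])
    have hb : t ^ (c - 1) * f = (algebraMap k A r : P) * (u * m) + t ^ c * g := by
      rw [hv, show c = (c - 1) + 1 by omega, pow_succ, show c - 1 + 1 - 1 = c - 1 by omega]
      show _ = PowerSeries.C r * _ + _
      linear_combination t ^ (c - 1) * hg
    rw [hb]
    exact add_mem (mul_mem' (huM m hm) _) (cond_mem hS h1 (dvd_mul_right _ _))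
  · rintro (hn | hno)
    · exact ⟨t ^ n, PowerSeries.order_X_pow n, fun m _ =>
        cond_mem hS h1 ((pow_dvd_pow _ hn).mul_right _)⟩
    by_cases hn : c ≤ n
    · exact ⟨t ^ n, PowerSeries.order_X_pow n, fun m _ =>
        cond_mem hS h1 ((pow_dvd_pow _ hn).mul_right _)⟩
    haveI := hS.fin
    let T : ℕ → Submodule A P := fun a => LinearMap.range (LinearMap.mulLeft A (t ^ a))
    have hT : ∀ a f, f ∈ T a ↔ t ^ a ∣ f := fun a f =>
      ⟨fun ⟨g, hg⟩ => ⟨g, hg.symm⟩, fun ⟨g, hg⟩ => ⟨g, hg.symm⟩⟩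
    have hTfg : ∀ a, (T a).FG := fun a => by
      rw [show T a = Submodule.map (LinearMap.mulLeft A (t ^ a)) ⊤ from (Submodule.map_top _).symm]
      exact (Module.Finite.fg_top (R := A) (M := P)).map _
    let a := c - 1 - n
    have hle : T (a + 1) ≤ T a := fun f hf =>
      (hT _ _).2 ((pow_dvd_pow _ (Nat.le_succ a)).trans ((hT _ _).1 hf))
    have hlt : M ⊔ T (a + 1) < M ⊔ T a := by
      refine lt_of_le_not_ge (sup_le_sup_left hle M) fun hge => hno ?_
      obtain ⟨m, hm, y, hy, hmy⟩ := Submodule.mem_sup.1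
        (hge (Submodule.mem_sup_right ((hT a (t ^ a)).2 dvd_rfl)))
      obtain ⟨z, rfl⟩ := (hT _ _).1 hy
      refine ⟨m, hm, eq_of_order m a ⟨1 - t * z, by linear_combination hmy⟩ fun hd => ?_⟩
      have h0 := PowerSeries.X_pow_dvd_iff.1 (dvd_add hd (dvd_mul_right (t ^ (a + 1)) z)) a
        (Nat.lt_succ_self a)
      rw [hmy, PowerSeries.coeff_X_pow_self] at h0
      exact one_ne_zero h0
    obtain ⟨u, hu, hnu⟩ := exists_mult_not_extend hS ω h1 _ _ (Submodule.mem_sup_left hM1)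
      (hMfg.sup (hTfg a)) hlt (a + 1) (fun f hf => Submodule.mem_sup_right ((hT _ _).2 hf))
    have hTa : ∀ f, u * (t ^ (a + 1) * f) ∈ ω := fun f =>
      hu _ (Submodule.mem_sup_right ((hT _ _).2 (dvd_mul_right _ _)))
    have hd : t ^ n ∣ u := by
      by_contra hnd
      have hne : u ≠ 0 := fun h => hnd (h ▸ dvd_zero _)
      obtain ⟨e, he⟩ : ∃ e : ℕ, PowerSeries.order u = e :=
        ⟨_, (ENat.coe_toNat (PowerSeries.order_eq_top.not.2 hne)).symm⟩
      obtain ⟨v, rfl⟩ := exists_unit_mul_of_order he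
      have hen : e < n := by
        by_contra hge
        exact hnd ((pow_dvd_pow _ (not_lt.1 hge)).mul_right _)
      refine not_pred_conductor hS hc0 hc1 ω h1 fun f => ?_
      have := hTa (t ^ (n - 1 - e) * ((↑v⁻¹ : P) * f))
      rwa [show t ^ e * (v : P) * (t ^ (a + 1) * (t ^ (n - 1 - e) * ((↑v⁻¹ : P) * f))) =
        t ^ (c - 1) * f by
          rw [show c - 1 = e + (a + 1) + (n - 1 - e) by omega, pow_add, pow_add]
          linear_combination (t ^ e * t ^ (a + 1) * t ^ (n - 1 - e) * f) * Units.mul_inv v] at this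
    refine ⟨u, eq_of_order u n hd fun hd1 => hnu fun x hx => ?_,
      fun m hm => hu m (Submodule.mem_sup_left hm)⟩
    obtain ⟨m, hm, y, hy, rfl⟩ := Submodule.mem_sup.1 hx
    rw [mul_add]
    refine add_mem (hu m (Submodule.mem_sup_left hm)) (cond_mem hS h1 ?_)
    rw [show c = (n + 1) + a by omega, pow_add]
    exact mul_dvd_mul hd1 ((hT _ _).1 hy)

end Groth.Agent.CubicalExt15.Canonical
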