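import Groth.Agent.CubicalExt15.Basic

/-! The three families of monomial modules. -/

set_option autoImplicit false
set_option backward.isDefEq.respectTransparency false

universe u

open CategoryTheory CategoryTheory.Abelian

namespace Groth.Agent.CubicalExt15

variable {k : Type u} [Field k] {n : ℕ} {A : Subalgebra k (PowerSeries k)}

local notation "P" => PowerSeries k
local notation "t" => (PowerSeries.X : PowerSeries k)

theorem coeff_shift_eq_zero (u : P) (p q : ℕ) (h : p < q) (hu : t ^ q ∣ u) :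
    PowerSeries.coeff p u = 0 := PowerSeries.X_pow_dvd_iff.1 hu p h

theorem coeff_pow_mul (n j : ℕ) (w : P) :
    PowerSeries.coeff (n + j) (t ^ n * w) = PowerSeries.coeff j w := by
  rw [add_comm n j]
  exact PowerSeries.coeff_X_pow_mul w n j

theorem length_eq_card {X : Type u} [AddCommGroup X] [Module k X] [Module.Finite k X] {d : ℕ}
    (h : Module.finrank k X = d) : Module.length k X = (d : ℕ∞) := by
  rw [Module.length_eq_finrank, h]

theorem ext_normalisation (hA : IsCubical n A) (hn : 1 ≤ n) :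
    Module.length A (Ext (ModuleCat.of A P) (ModuleCat.of A P) 1) = (((n - 1) * n : ℕ) : ℕ∞) := by
  let g : Fin (n - 1) → ℕ := fun r => r.1 + 1
  have hinj : Function.Injective g := fun a b h => Fin.ext (by simpa [g] using h)
  have htop : Mon hA g = ⊤ := by
    rw [eq_top_iff]
    intro f _ p hp h0 hr
    exact absurd (show g ⟨p - 1, by omega⟩ = p by simp [g]; omega) (hr _)
  let q : (Fin (n - 1) → P) →ₗ[k] (Fin (n - 1) → Fin n → k) :=
    LinearMap.pi fun r => LinearMap.pi fun j => (PowerSeries.coeff (R := k) j.1) ∘ₗ LinearMap.proj r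
  have hq : ∀ u r (j : Fin n), q u r j = PowerSeries.coeff j.1 (u r) := fun u r j => rfl
  rw [length_ext hA g hinj (fun r => by simp [g]) (fun r => by have := r.2; simp [g]; omega)
    (LinearMap.id : P →ₗ[A] P) Function.injective_id (by rw [LinearMap.range_id, htop]) 0
    (fun u => by simp [htop]) q (fun u hu => ?_) (fun x => ?_) (fun u _ => ⟨fun h => ?_, ?_⟩)]
  · exact length_eq_card (by simp [Module.finrank_pi_fintype])
  · funext r j
    rw [hq]
    exact coeff_shift_eq_zero _ _ n j.2 (by simpa using hu r)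
  · refine ⟨fun r => ∑ j : Fin n, PowerSeries.C (x r j) * t ^ j.1, fun r => by simp, ?_⟩
    funext r j
    rw [hq, map_sum, Finset.sum_eq_single j (fun b _ hb => by
      simp [PowerSeries.coeff_X_pow, Fin.val_ne_of_ne hb.symm])
      (fun h => absurd (Finset.mem_univ j) h)]
    simp
  · have hd : ∀ r, t ^ n ∣ u r := fun r => PowerSeries.X_pow_dvd_iff.2 fun p hp => by
      simpa [hq] using congrFun (congrFun h r) ⟨p, hp⟩
    choose w hw using hd
    exact ⟨0, w, zero_mem _, fun r => by simp [htop], fun r => by rw [hw r, mul_zero, sub_zero]⟩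
  · rintro ⟨n₀, nn, -, -, hu⟩
    funext r j
    rw [hq, hu]
    exact coeff_shift_eq_zero _ _ n j.2 (dvd_mul_right _ _)

theorem length_end_quotient (hA : IsCubical n A) :
    Module.length A ((P →ₗ[A] P) ⧸
      LinearMap.range (Algebra.lsmul A A P : A →ₐ[A] Module.End A P).toLinearMap) =
        ((n - 1 : ℕ) : ℕ∞) := by
  let F : (P →ₗ[A] P) →ₛₗ[ev A] (Fin (n - 1) → k) :=
    { toFun := fun φ j => PowerSeries.coeff (j.1 + 1) (φ 1)
      map_add' := fun φ ψ => funext fun j => map_add _ _ _
      map_smul' := fun a φ => funext fun j => by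
        show PowerSeries.coeff (j.1 + 1) ((a : P) * φ 1) = ev A a * _
        exact coeff_mul_of_dvd hA a (m := 0) (one_dvd _) (by have := j.2; omega) }
  rw [length_eq_of_ker F (fun x => ?_) _ (fun φ => ⟨fun h => ?_, ?_⟩)]
  · exact (Module.length_eq_finrank k (Fin (n - 1) → k)).trans (by simp)
  · refine ⟨LinearMap.mulRight A (∑ j : Fin (n - 1), PowerSeries.C (x j) * t ^ (j.1 + 1)), ?_⟩
    funext j
    show PowerSeries.coeff (j.1 + 1) ((1 : P) * _) = x j
    rw [one_mul, map_sum, Finset.sum_eq_single j (fun b _ hb => by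
      simp [PowerSeries.coeff_X_pow, Fin.val_ne_of_ne hb.symm])
      (fun h => absurd (Finset.mem_univ j) h)]
    simp
  · have hm : φ 1 ∈ A := by
      rw [hA]
      intro p hp
      by_contra hcon
      push Not at hcon
      refine hp ?_
      have := congrFun h ⟨p - 1, by omega⟩
      simpa [F, Nat.sub_add_cancel (Nat.one_le_iff_ne_zero.2 hcon.1)] using this
    refine ⟨⟨φ 1, hm⟩, LinearMap.ext fun h => ?_⟩
    rw [linearMap_apply hA φ h, mul_comm]
    rfl
  · rintro ⟨a, rfl⟩
    funext j
    show PowerSeries.coeff (j.1 + 1) ((a : P) * 1) = 0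
    rw [mul_one]
    by_contra hne
    rcases (hA _).1 a.2 _ hne with h' | h'
    · omega
    · have := j.2; omega

theorem ext_overring (hA : IsCubical n A) {i : ℕ} (hi : i + 2 ≤ n)
    (N : Submodule A P) (hN : N = Mon hA fun r : Fin i => n - i + r.1) :
    Module.length A (Ext (ModuleCat.of A N) (ModuleCat.of A N) 1) = ((i * (n - 1) : ℕ) : ℕ∞) := by
  let g : Fin i → ℕ := fun r => n - i + r.1
  have hmem : ∀ f, f ∈ Mon hA g ↔ ∀ p, p ≠ 0 → p < n - i → PowerSeries.coeff p f = 0 := by
    intro f
    rw [mem_Mon]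
    refine ⟨fun h p h0 hp => h p (by omega) h0 (fun r => by simp [g]; omega),
      fun h p hp h0 hr => h p h0 ?_⟩
    by_contra hle
    exact hr ⟨p - (n - i), by omega⟩ (by simp [g]; omega)
  have hdm : ∀ f, t ^ (n - i) ∣ f → f ∈ Mon hA g := fun f hf =>
    (hmem f).2 fun p _ hp => coeff_shift_eq_zero f p _ hp hf
  let q : (Fin i → P) →ₗ[k] (Fin i → {j : Fin n // j.1 ≠ i} → k) :=
    LinearMap.pi fun r => LinearMap.pi fun j =>
      (PowerSeries.coeff (R := k) (n - i + j.1.1)) ∘ₗ LinearMap.proj r
  have hq : ∀ u r (j : {j : Fin n // j.1 ≠ i}),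
      q u r j = PowerSeries.coeff (n - i + j.1.1) (u r) := fun u r j => rfl
  rw [length_ext hA g (fun a b h => Fin.ext (by simpa [g] using h)) (fun r => by simp [g]; omega)
    (fun r => by have := r.2; simp [g]; omega) N.subtype Subtype.val_injective
    (by rw [Submodule.range_subtype, hN]) (n - i) (fun u => ⟨fun h => ?_, fun h v => ?_⟩) q
    (fun u hu => ?_) (fun x => ?_) (fun u hud => ⟨fun h => ?_, ?_⟩)]
  · refine length_eq_card ?_
    rw [Module.finrank_pi_fintype]
    simp only [Module.finrank_pi, Finset.sum_const, Finset.card_univ, Fintype.card_fin, smul_eq_mul]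
    congr 1
    rw [Fintype.card_subtype]
    have : (Finset.univ.filter fun j : Fin n => j.1 ≠ i) =
        Finset.univ.erase (⟨i, by omega⟩ : Fin n) := by ext j; simp [Fin.ext_iff]
    rw [this]; simp
  · refine PowerSeries.X_pow_dvd_iff.2 fun p hp => ?_
    by_cases h0 : p = 0
    · subst h0
      have := (hmem _).1 (h t) 1 one_ne_zero (by omega)
      rwa [PowerSeries.coeff_succ_X_mul] at this
    · simpa using (hmem _).1 (h 1) p h0 hp
  · exact hdm _ (h.mul_left v)
  · funext r j
    rw [hq]
    exact coeff_shift_eq_zero _ _ _ (by have := j.1.2; omega) (hu r)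
  · refine ⟨fun r => t ^ (n - i) * ∑ j : {j : Fin n // j.1 ≠ i},
      PowerSeries.C (x r j) * t ^ j.1.1, fun r => dvd_mul_right _ _, ?_⟩
    funext r j
    rw [hq, coeff_pow_mul, map_sum, Finset.sum_eq_single j (fun b _ hb => by
      have : j.1.1 ≠ b.1.1 := fun h => hb (Subtype.ext (Fin.ext h.symm))
      simp [PowerSeries.coeff_X_pow, this])
      (fun h => absurd (Finset.mem_univ j) h)]
    simp
  · have hz : ∀ r p, p < n → PowerSeries.coeff p (u r) = 0 := by
      intro r p hp
      by_cases hlt : p < n - i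
      · exact coeff_shift_eq_zero _ _ _ hlt (hud r)
      · have := congrFun (congrFun h r) ⟨⟨p - (n - i), by omega⟩, by simp; omega⟩
        simpa [hq, Nat.add_sub_of_le (not_lt.1 hlt)] using this
    have hd : ∀ r, t ^ n ∣ u r := fun r => PowerSeries.X_pow_dvd_iff.2 (hz r)
    choose w hw using hd
    refine ⟨0, w, zero_mem _, fun r => (hmem _).2 fun p h0 hp => ?_, fun r => by
      rw [hw r, mul_zero, sub_zero]⟩
    have := congrFun (congrFun h r) ⟨⟨i + p, by omega⟩, by simp [h0]⟩
    rw [hq, hw r, show n - i + (i + p) = n + p by omega, coeff_pow_mul] at this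
    exact this
  · rintro ⟨n₀, nn, hn₀, hnn, hu⟩
    funext r j
    rw [hq, hu]
    show PowerSeries.coeff (n - i + j.1.1) _ = 0
    by_cases hlt : n - i + j.1.1 < n
    · exact coeff_shift_eq_zero _ _ n hlt (dvd_mul_right _ _)
    · have hj := j.1.2
      have hji := j.2
      obtain ⟨p, hp⟩ := Nat.exists_eq_add_of_le (not_lt.1 hlt)
      rw [hp, coeff_pow_mul, map_sub, (hmem _).1 (hnn r) p (by omega) (by omega),
        coeff_shift_eq_zero (t ^ g r * n₀) p (g r) (by simp [g]; omega) (dvd_mul_right _ _),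
        sub_zero]

/-- The shift pattern of `t ^ (r + 1) * n₀` in degrees `> i`. -/
noncomputable def shiftMap (k : Type u) [Field k] (i d : ℕ) :
    (Fin i → k) →ₗ[k] (Fin i → Fin d → k) where
  toFun c r j := if h : j.1 ≤ r.1 then c ⟨i - 1 - (r.1 - j.1), by have := r.2; omega⟩ else 0
  map_add' a b := by funext r j; by_cases h : j.1 ≤ r.1 <;> simp [h]
  map_smul' a b := by funext r j; by_cases h : j.1 ≤ r.1 <;> simp [h]

theorem shiftMap_injective {i d : ℕ} (hd : 0 < d) : Function.Injective (shiftMap k i d) := by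
  intro a b h
  funext s
  have := congrFun (congrFun h ⟨i - 1 - s.1, by have := s.2; omega⟩) ⟨0, hd⟩
  have hs : (⟨i - 1 - (i - 1 - s.1), by have := s.2; omega⟩ : Fin i) = s :=
    Fin.ext (by have := s.2; simp; omega)
  simpa [shiftMap, hs] using this

theorem finrank_coker_shiftMap (i d : ℕ) (hd : 0 < d) :
    Module.finrank k ((Fin i → Fin d → k) ⧸ LinearMap.range (shiftMap k i d)) = i * d - i := by
  have h1 := Submodule.finrank_quotient_add_finrank (LinearMap.range (shiftMap k i d))
  rw [LinearMap.finrank_range_of_inj (shiftMap_injective hd)] at h1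
  simp [Module.finrank_pi_fintype] at h1 ⊢
  omega

theorem ext_initial (hA : IsCubical n A) {i : ℕ} (hi : i + 2 ≤ n)
    (N : Submodule A P) (hN : N = Mon hA fun r : Fin i => r.1 + 1) :
    Module.length A (Ext (ModuleCat.of A N) (ModuleCat.of A N) 1) =
      ((i * (n - 2 - i) : ℕ) : ℕ∞) := by
  let g : Fin i → ℕ := fun r => r.1 + 1
  let d : ℕ := n - 1 - i
  have hmem : ∀ f, f ∈ Mon hA g ↔ ∀ p, i < p → p < n → PowerSeries.coeff p f = 0 := by
    intro f
    rw [mem_Mon]
    refine ⟨fun h p h0 hp => h p hp (by omega) (fun r => by have := r.2; simp [g]; omega),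
      fun h p hp h0 hr => h p ?_ hp⟩
    by_contra hle
    exact hr ⟨p - 1, by omega⟩ (by simp [g]; omega)
  have hdm : ∀ f, t ^ n ∣ f → f ∈ Mon hA g := fun f hf =>
    (hmem f).2 fun p _ hp => coeff_shift_eq_zero f p _ hp hf
  let q₀ : (Fin i → P) →ₗ[k] (Fin i → Fin d → k) :=
    LinearMap.pi fun r => LinearMap.pi fun j =>
      (PowerSeries.coeff (R := k) (n + (i + 1 + j.1))) ∘ₗ LinearMap.proj r
  have hq : ∀ u r (j : Fin d), q₀ u r j = PowerSeries.coeff (n + (i + 1 + j.1)) (u r) :=
    fun u r j => rfl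
  have hsh : ∀ (n₀ : P), n₀ ∈ Mon hA g → ∀ (r : Fin i) (j : Fin d),
      PowerSeries.coeff (i + 1 + j.1) (t ^ g r * n₀) =
        shiftMap k i d (fun s => PowerSeries.coeff (s.1 + 1) n₀) r j := by
    intro n₀ hn₀ r j
    have hr := r.2
    have hj := j.2
    rw [show i + 1 + j.1 = g r + (i + j.1 - r.1) by simp [g]; omega, coeff_pow_mul]
    show _ = if h : j.1 ≤ r.1 then _ else 0
    split_ifs with h
    · exact congrArg (fun p => PowerSeries.coeff p n₀) (by simp; omega)
    · exact (hmem _).1 hn₀ _ (by omega) (by omega)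
  rw [length_ext hA g (fun a b h => Fin.ext (by simpa [g] using h)) (fun r => by simp [g])
    (fun r => by have := r.2; simp [g]; omega) N.subtype Subtype.val_injective
    (by rw [Submodule.range_subtype, hN]) n (fun u => ⟨fun h => ?_, fun h v => hdm _ (h.mul_left v)⟩)
    ((LinearMap.range (shiftMap k i d)).mkQ ∘ₗ q₀)
    (fun u hu => ?_) (fun x => ?_) (fun u hud => ⟨fun h => ?_, ?_⟩)]
  · refine length_eq_card ?_
    rw [finrank_coker_shiftMap i d (by omega), show n - 2 - i = d - 1 by omega, Nat.mul_sub_one]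
  · refine PowerSeries.X_pow_dvd_iff.2 fun p hp => ?_
    by_cases hle : i < p
    · simpa using (hmem _).1 (h 1) p hle hp
    · have := (hmem _).1 (h (t ^ (i + 1 - p))) (i + 1) (by omega) (by omega)
      rw [show i + 1 = (i + 1 - p) + p by omega] at this
      rw [show (i + 1 - p) + p - p = i + 1 - p by omega] at this
      rwa [coeff_pow_mul] at this
  · show Submodule.Quotient.mk (q₀ u) = 0
    have : q₀ u = 0 := by
      funext r j
      rw [hq]
      exact coeff_shift_eq_zero _ _ _ (by have := j.2; omega) (hu r)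
    rw [this]; rfl
  · obtain ⟨x, rfl⟩ := Submodule.Quotient.mk_surjective _ x
    refine ⟨fun r => t ^ n * (t ^ (i + 1) * ∑ j : Fin d, PowerSeries.C (x r j) * t ^ j.1),
      fun r => dvd_mul_right _ _, congrArg Submodule.Quotient.mk ?_⟩
    funext r j
    rw [hq, coeff_pow_mul, coeff_pow_mul, map_sum, Finset.sum_eq_single j (fun b _ hb => by
      simp [PowerSeries.coeff_X_pow, Fin.val_ne_of_ne hb.symm])
      (fun h => absurd (Finset.mem_univ j) h)]
    simp
  · obtain ⟨c, hc⟩ := (Submodule.Quotient.mk_eq_zero _).1 h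
    let n₀ : P := -∑ s : Fin i, PowerSeries.C (c s) * t ^ (s.1 + 1)
    have hn₀ : n₀ ∈ Mon hA g := by
      rw [hmem]
      intro p hp _
      simp only [n₀, map_neg, map_sum, neg_eq_zero]
      refine Finset.sum_eq_zero fun s _ => ?_
      have := s.2
      simp [PowerSeries.coeff_X_pow, show p ≠ s.1 + 1 by omega]
    have hcs : (fun s : Fin i => PowerSeries.coeff (s.1 + 1) n₀) = -c := by
      funext s
      simp only [n₀, map_neg, map_sum, Pi.neg_apply, neg_inj]
      rw [Finset.sum_eq_single s (fun b _ hb => by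
        simp [PowerSeries.coeff_X_pow, Fin.val_ne_of_ne hb.symm])
        (fun h => absurd (Finset.mem_univ s) h)]
      simp
    choose w hw using hud
    refine ⟨n₀, fun r => w r + t ^ g r * n₀, hn₀, fun r => (hmem _).2 fun p hp hpn => ?_,
      fun r => by rw [hw r, add_sub_cancel_right]⟩
    obtain ⟨j, hj⟩ := Nat.exists_eq_add_of_le (show i + 1 ≤ p by omega)
    have hjd : j < d := by omega
    have h2 := congrFun (congrFun hc r) ⟨j, hjd⟩
    rw [hq, hw r, coeff_pow_mul] at h2
    rw [map_add, hj, ← h2, hsh n₀ hn₀ r ⟨j, hjd⟩, hcs, map_neg]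
    simp
  · rintro ⟨n₀, nn, hn₀, hnn, hu⟩
    refine (Submodule.Quotient.mk_eq_zero _).2
      ⟨-(fun s => PowerSeries.coeff (s.1 + 1) n₀), ?_⟩
    funext r j
    rw [hq, hu, coeff_pow_mul, map_sub, (hmem _).1 (hnn r) _ (by omega)
      (by have := j.2; omega), zero_sub, map_neg, hsh n₀ hn₀]
    rfl

end Groth.Agent.CubicalExt15
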