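import Groth.Agent.CubicalExt15.TwoGen

/-! The rank one modules of the `E₆` singularity. -/

set_option autoImplicit false
set_option backward.isDefEq.respectTransparency false
set_option synthInstance.maxHeartbeats 200000

universe u

open CategoryTheory CategoryTheory.Abelian

namespace Groth.Agent.CubicalExt15.Monomial

variable {k : Type u} [Field k] {A : Subalgebra k (PowerSeries k)}

local notation "P" => PowerSeries k
local notation "t" => (PowerSeries.X : PowerSeries k)
noncomputable local instance (T : Submodule A (PowerSeries k)) : AddCommGroup T := T.addCommGroup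

local notation "Γ₆" => AddSubmonoid.closure ({3, 4} : Set ℕ)

theorem length_ext_e6_pair (hA : IsMonomial Γ₆ A) (g a : ℕ) (T : Set ℕ) (D : Finset ℕ)
    (p q : ℕ → Prop) (hT : ∀ e, e ∈ T ↔ p e)
    (hp : ∀ γ s, (γ ≠ 1 ∧ γ ≠ 2 ∧ γ ≠ 5) → p s → p (γ + s)) (hp0 : p 0)
    (hS : ∀ e, (e ∈ Γ₆ ∨ ∃ s ∈ Γ₆, e = g + s) ↔ q e)
    (hKT : ∀ e, (e ≠ 1 ∧ e ≠ 2 ∧ e ≠ 5) ∧ (e + g ≠ 1 ∧ e + g ≠ 2 ∧ e + g ≠ 5) ↔
      ∃ s, p s ∧ e = a + s)
    (hD : ∀ e, e ∈ D ↔ (∀ s, p s → q (e + s)) ∧
      ¬((∃ s, q s ∧ e = a + s) ∨ ∃ s, q s ∧ e = a + g + s)) :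
    Module.length A (Ext (ModuleCat.of A (Submodule.span A ({1, t ^ g} : Set P)))
      (ModuleCat.of A (Submodule.span A ({1, t ^ g} : Set P))) 1) = (D.card : ℕ∞) := by
  refine length_ext_self hA 6 g a (fun e he => (mem_closure_three_four e).2 (by omega)) T
    (fun γ hγ s hs => (hT _).2 (hp γ s ((mem_closure_three_four γ).1 hγ) ((hT s).1 hs)))
    ((hT 0).2 hp0) (fun e => ?_) D (fun e => ?_)
  · rw [mem_closure_three_four, mem_closure_three_four, hKT e,
      exists_congr fun s => and_congr_left' (hT s)]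
  · rw [hD e]
    exact and_congr (forall_congr' fun s => imp_congr (hT s).symm (hS _).symm)
      (not_congr (or_congr (exists_congr fun s => and_congr_left' (hS s).symm)
        (exists_congr fun s => and_congr_left' (hS s).symm)))

theorem length_ext_e6_one (hA : IsMonomial Γ₆ A) :
    Module.length A (Ext (ModuleCat.of A (Submodule.span A ({1, t ^ 5} : Set P)))
      (ModuleCat.of A (Submodule.span A ({1, t ^ 5} : Set P))) 1) = 2 := by
  rw [length_ext_e6_pair hA 5 3 {e | e ≠ 2} {4, 5} (fun e => e ≠ 2)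
    (fun e => e ≠ 1 ∧ e ≠ 2) (fun _ => Iff.rfl) (fun γ s hγ hs => by omega) (by omega)
    (fun e => ?_) (fun e => ?_) (fun e => ?_)]
  · rfl
  · simp only [mem_closure_three_four]
    constructor
    · rintro (h | ⟨s, hs, rfl⟩) <;> omega
    · intro h
      by_cases h5 : e = 5
      · exact Or.inr ⟨0, by omega, h5⟩
      · exact Or.inl (by omega)
  · constructor
    · exact fun h => ⟨e - 3, by omega, by omega⟩
    · rintro ⟨s, hs, rfl⟩; omega
  · simp only [Finset.mem_insert, Finset.mem_singleton]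
    constructor
    · intro h
      refine ⟨fun s hs => by omega, ?_⟩
      rintro (⟨s, hs, rfl⟩ | ⟨s, hs, rfl⟩) <;> omega
    · rintro ⟨h, hn⟩
      by_contra hc
      have h0 := h 0 (by omega)
      have h1 := h 1 (by omega)
      exact hn (Or.inl ⟨e - 3, by omega, by omega⟩)

theorem length_ext_e6_dual (hA : IsMonomial Γ₆ A) :
    Module.length A (Ext (ModuleCat.of A (Submodule.span A ({1, t} : Set P)))
      (ModuleCat.of A (Submodule.span A ({1, t} : Set P))) 1) = 2 := by
  rw [show ({1, t} : Set P) = {1, t ^ 1} by rw [pow_one]]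
  rw [length_ext_e6_pair hA 1 3 {e | e ≠ 1 ∧ e ≠ 2} {0, 1} (fun e => e ≠ 1 ∧ e ≠ 2)
    (fun e => e ≠ 2) (fun _ => Iff.rfl) (fun γ s hγ hs => by omega) (by omega)
    (fun e => ?_) (fun e => ?_) (fun e => ?_)]
  · rfl
  · simp only [mem_closure_three_four]
    constructor
    · rintro (h | ⟨s, hs, rfl⟩) <;> omega
    · intro h
      by_cases h5 : e = 1 ∨ e = 5
      · exact Or.inr ⟨e - 1, by omega, by omega⟩
      · exact Or.inl (by omega)
  · constructor
    · exact fun h => ⟨e - 3, by omega, by omega⟩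
    · rintro ⟨s, hs, rfl⟩; omega
  · simp only [Finset.mem_insert, Finset.mem_singleton]
    constructor
    · intro h
      refine ⟨fun s hs => by omega, ?_⟩
      rintro (⟨s, hs, rfl⟩ | ⟨s, hs, rfl⟩) <;> omega
    · rintro ⟨h, hn⟩
      by_contra hc
      have h0 := h 0 (by omega)
      by_cases h5 : e = 5
      · exact hn (Or.inr ⟨1, by omega, h5⟩)
      · exact hn (Or.inl ⟨e - 3, by omega, by omega⟩)

theorem length_ext_e6_two (hA : IsMonomial Γ₆ A) :
    Module.length A (Ext (ModuleCat.of A (Submodule.span A ({1, t ^ 2} : Set P)))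
      (ModuleCat.of A (Submodule.span A ({1, t ^ 2} : Set P))) 1) = 4 := by
  rw [length_ext_e6_pair hA 2 4 {e | e ≠ 1} {0, 2, 3, 5} (fun e => e ≠ 1)
    (fun e => e ≠ 1) (fun _ => Iff.rfl) (fun γ s hγ hs => by omega) (by omega)
    (fun e => ?_) (fun e => ?_) (fun e => ?_)]
  · rfl
  · simp only [mem_closure_three_four]
    constructor
    · rintro (h | ⟨s, hs, rfl⟩) <;> omega
    · intro h
      by_cases h5 : e = 2 ∨ e = 5
      · exact Or.inr ⟨e - 2, by omega, by omega⟩
      · exact Or.inl (by omega)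
  · constructor
    · exact fun h => ⟨e - 4, by omega, by omega⟩
    · rintro ⟨s, hs, rfl⟩; omega
  · simp only [Finset.mem_insert, Finset.mem_singleton]
    constructor
    · intro h
      refine ⟨fun s hs => by omega, ?_⟩
      rintro (⟨s, hs, rfl⟩ | ⟨s, hs, rfl⟩) <;> omega
    · rintro ⟨h, hn⟩
      by_contra hc
      have h0 := h 0 (by omega)
      exact hn (Or.inl ⟨e - 4, by omega, by omega⟩)

set_option maxHeartbeats 1000000 in
theorem length_ext_e6_top (hA : IsMonomial Γ₆ A) :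
    Module.length A (Ext (ModuleCat.of A (Submodule.span A ({1, t, t ^ 2} : Set P)))
      (ModuleCat.of A (Submodule.span A ({1, t, t ^ 2} : Set P))) 1) = 6 := by
  classical
  set M := Submodule.span A ({1, t, t ^ 2} : Set P) with hM
  have hmem : ∀ f : P, f ∈ A ↔ ∀ e, PowerSeries.coeff e f ≠ 0 → e ≠ 1 ∧ e ≠ 2 ∧ e ≠ 5 :=
    fun f => (hA f).trans (forall_congr' fun e => imp_congr_right fun _ => mem_closure_three_four e)
  have hs : ∀ (a : A) (g : ℕ), t ^ g ∈ M → (a : P) * t ^ g ∈ M := fun a g h => M.smul_mem a h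
  have htop : ∀ f : P, f ∈ M := by
    intro f
    let b₁ : P := PowerSeries.C (PowerSeries.coeff 1 f) + PowerSeries.C (PowerSeries.coeff 5 f) * t ^ 4
    have hb₁ : b₁ ∈ A := (hmem _).2 fun e he => by
      by_contra hc
      apply he
      simp [b₁, PowerSeries.coeff_C, PowerSeries.coeff_X_pow, show e ≠ 0 by omega,
        show e ≠ 4 by omega]
    have hb₀ : f - b₁ * t ^ 1 - PowerSeries.C (PowerSeries.coeff 2 f) * t ^ 2 ∈ A :=
      (hmem _).2 fun e he => by
        by_contra hc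
        apply he
        have : e = 1 ∨ e = 2 ∨ e = 5 := by omega
        rcases this with rfl | rfl | rfl <;>
          simp [b₁, PowerSeries.coeff_C, PowerSeries.coeff_X_pow, add_mul, mul_assoc,
            ← pow_succ, PowerSeries.coeff_X]
    have h1 : (1 : P) ∈ M := Submodule.subset_span (Or.inl rfl)
    have ht : t ^ 1 ∈ M := by rw [pow_one]; exact Submodule.subset_span (Or.inr (Or.inl rfl))
    have ht2 : t ^ 2 ∈ M := Submodule.subset_span (Or.inr (Or.inr rfl))
    have hsum := add_mem (add_mem (M.smul_mem (⟨_, hb₀⟩ : A) h1) (hs ⟨b₁, hb₁⟩ 1 ht))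
      (hs (algebraMap k A (PowerSeries.coeff 2 f)) 2 ht2)
    convert hsum using 1
    simp [Subalgebra.smul_def]
    ring
  let π : (A × A × A) →ₗ[A] M :=
    (LinearMap.toSpanSingleton A M ⟨1, htop _⟩).coprod
      ((LinearMap.toSpanSingleton A M ⟨t, htop _⟩).coprod
        (LinearMap.toSpanSingleton A M ⟨t ^ 2, htop _⟩))
  have hπ : ∀ x : A × A × A, (π x : P) = (x.1 : P) + ((x.2.1 : P) * t + (x.2.2 : P) * t ^ 2) :=
    fun x => by simp [π, Subalgebra.smul_def]
  have hπs : Function.Surjective π := by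
    rintro ⟨y, hy⟩
    obtain ⟨x₀, z, hz, rfl⟩ := Submodule.mem_span_insert.1 hy
    obtain ⟨x₁, x₂, rfl⟩ := Submodule.mem_span_pair.1 hz
    exact ⟨(x₀, x₁, x₂), Subtype.ext (by rw [hπ]; simp [Subalgebra.smul_def])⟩
  let K := LinearMap.ker π
  letI : AddCommGroup K := K.addCommGroup
  obtain ⟨p, hp, hker⟩ := CAlgH3.exists_ext_one_presentation ↥M (K := K) (F := A × A × A) (ι := K.subtype) (π := π)
    (Submodule.injective_subtype _) hπs (fun y => by simp [K])
  rw [← (p.quotKerEquivOfSurjective hp).length_eq, hker]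
  have hA6 : ∀ f : P, t ^ 6 * f ∈ A := fun f => (hmem _).2 fun e he => by
    by_contra hc
    exact he (PowerSeries.X_pow_dvd_iff.1 (dvd_mul_right _ f) e (by omega))
  have hA3 : ∀ m, m ≠ 1 → m ≠ 2 → m ≠ 5 → t ^ m ∈ A := fun m h1 h2 h3 => (hmem _).2 fun e he => by
    rw [PowerSeries.coeff_X_pow] at he
    split_ifs at he with h
    · subst h; exact ⟨h1, h2, h3⟩
    · exact absurd rfl he
  let q3 : A := ⟨t ^ 3, hA3 3 (by omega) (by omega) (by omega)⟩
  let q4 : A := ⟨t ^ 4, hA3 4 (by omega) (by omega) (by omega)⟩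
  have hKc : ∀ x : K, ((x.1.1 : A) : P) + ((x.1.2.1 : P) * t + (x.1.2.2 : P) * t ^ 2) = 0 :=
    fun x => by rw [← hπ, LinearMap.mem_ker.1 x.2]; rfl
  have hdiv : ∀ x : K, t ^ 3 ∣ (x.1.2.1 : P) ∧ t ^ 3 ∣ (x.1.2.2 : P) := by
    intro x
    have hz : ∀ e, (e = 1 ∨ e = 2 ∨ e = 5) → ∀ b : A, PowerSeries.coeff e (b : P) = 0 :=
      fun e he b => by
        by_contra hne
        have := (hmem _).1 b.2 e hne
        omega
    have hx := hKc x
    have e1 := congrArg (PowerSeries.coeff 1) hx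
    have e2 := congrArg (PowerSeries.coeff 2) hx
    simp [hz 1 (by omega), hz 2 (by omega), PowerSeries.coeff_succ_mul_X,
      PowerSeries.coeff_mul_X_pow'] at e1 e2
    constructor <;> refine PowerSeries.X_pow_dvd_iff.2 fun m hm => ?_ <;> interval_cases m <;>
      simp [hz 1 (by omega), hz 2 (by omega), e1, e2]
  let u : K := ⟨(-q4, q3, 0), LinearMap.mem_ker.2 (Subtype.ext (by
    rw [hπ]; simp [q3, q4]; ring))⟩
  let w : K := ⟨(0, q4, -q3), LinearMap.mem_ker.2 (Subtype.ext (by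
    rw [hπ]; simp [q3, q4]; ring))⟩
  have hφ : ∀ (φ : K →ₗ[A] M) (x : K), t ^ 3 * (φ x : P) =
      (x.1.2.1 : P) * φ u + (x.1.2.2 : P) * (t * (φ u : P) - (φ w : P)) := by
    intro φ x
    obtain ⟨⟨c₁, hc₁⟩, ⟨c₂, hc₂⟩⟩ := hdiv x
    let s₁ : A := ⟨t ^ 3 * x.1.2.1 + t ^ 4 * x.1.2.2, by
      rw [hc₁, hc₂, show t ^ 3 * (t ^ 3 * c₁) + t ^ 4 * (t ^ 3 * c₂) = t ^ 6 * (c₁ + t * c₂) by ring]
      exact hA6 _⟩
    let s₂ : A := ⟨-(t ^ 3 * x.1.2.2), by
      rw [hc₂, ← mul_assoc, ← pow_add]; exact neg_mem (hA6 _)⟩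
    have heq : (⟨t ^ 6 * 1, hA6 1⟩ : A) • x = s₁ • u + s₂ • w := by
      apply Subtype.ext
      refine Prod.ext ?_ (Prod.ext ?_ ?_) <;> apply Subtype.ext
      · have := hKc x
        simp [u, w, s₁, s₂, q3, q4]
        linear_combination t ^ 6 * this
      · simp [u, w, s₁, s₂, q3, q4]; ring
      · simp [u, w, s₁, s₂, q3, q4]; ring
    have h2 := congrArg (fun z => (φ z : P)) heq
    simp [map_add, map_smul, Subalgebra.smul_def, s₁, s₂] at h2
    refine mul_left_cancel₀ (pow_ne_zero 3 PowerSeries.X_ne_zero) ?_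
    linear_combination h2
  let F : (K →ₗ[A] M) →ₛₗ[ev A] (Fin 3 → k) × (Fin 3 → k) :=
    { toFun := fun φ => (fun j => PowerSeries.coeff j.1 (φ u : P),
        fun j => PowerSeries.coeff j.1 (t * (φ u : P) - (φ w : P)))
      map_add' := fun φ ψ => by
        refine Prod.ext (funext fun j => map_add _ _ _) (funext fun j => ?_)
        show PowerSeries.coeff j.1 (t * ((φ u : P) + (ψ u : P)) - ((φ w : P) + (ψ w : P))) = _
        rw [show t * ((φ u : P) + (ψ u : P)) - ((φ w : P) + (ψ w : P)) =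
          (t * (φ u : P) - (φ w : P)) + (t * (ψ u : P) - (ψ w : P)) by ring, map_add]
        rfl
      map_smul' := fun r φ => by
        have he : ∀ (f : P) (j : Fin 3), PowerSeries.coeff j.1 ((r : P) * f) =
            ev A r * PowerSeries.coeff j.1 f := fun f j => ev_mul hA r f j.1 fun γ hγ h0 hle => by
          have := (mem_closure_three_four γ).1 hγ
          have := j.2
          omega
        refine Prod.ext (funext fun j => he _ j) (funext fun j => ?_)
        show PowerSeries.coeff j.1 (t * ((r : P) * (φ u : P)) - (r : P) * (φ w : P)) = ev A r * _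
        rw [show t * ((r : P) * (φ u : P)) - (r : P) * (φ w : P) = (r : P) * (t * (φ u : P) - (φ w : P)) by ring]
        exact he _ j }
  rw [length_eq_of_ker (σ := ev A) (H := K →ₗ[A] M) (X := (Fin 3 → k) × (Fin 3 → k)) F
    (fun x => ?_) _ (fun φ => ⟨fun h => ?_, ?_⟩), Module.length_eq_finrank]
  · simp [Module.finrank_prod]
  · let U : P := ∑ j : Fin 3, PowerSeries.C (x.1 j) * t ^ j.1
    let V : P := ∑ j : Fin 3, PowerSeries.C (x.2 j) * t ^ j.1
    choose d₁ hd₁ using fun z : K => (hdiv z).1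
    choose d₂ hd₂ using fun z : K => (hdiv z).2
    let φ : K →ₗ[A] M :=
      { toFun := fun z => ⟨d₁ z * U + d₂ z * V, htop _⟩
        map_add' := fun y z => Subtype.ext <| by
          show d₁ (y + z) * U + d₂ (y + z) * V = d₁ y * U + d₂ y * V + (d₁ z * U + d₂ z * V)
          have h1 := hd₁ (y + z)
          have h2 := hd₂ (y + z)
          simp [hd₁ y, hd₁ z, hd₂ y, hd₂ z] at h1 h2
          refine mul_left_cancel₀ (pow_ne_zero 3 PowerSeries.X_ne_zero) ?_
          linear_combination (-U) * h1 + (-V) * h2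
        map_smul' := fun r z => Subtype.ext <| by
          show d₁ (r • z) * U + d₂ (r • z) * V = (r : P) * (d₁ z * U + d₂ z * V)
          have h1 := hd₁ (r • z)
          have h2 := hd₂ (r • z)
          simp [hd₁ z, hd₂ z] at h1 h2
          refine mul_left_cancel₀ (pow_ne_zero 3 PowerSeries.X_ne_zero) ?_
          linear_combination (-U) * h1 + (-V) * h2 }
    have h3 : (t : P) ^ 3 ≠ 0 := pow_ne_zero 3 PowerSeries.X_ne_zero
    have hu : (φ u : P) = U := by
      refine mul_left_cancel₀ h3 ?_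
      have h1 : t ^ 3 = t ^ 3 * d₁ u := hd₁ u
      have h2 : (0 : P) = t ^ 3 * d₂ u := hd₂ u
      show t ^ 3 * (d₁ u * U + d₂ u * V) = t ^ 3 * U
      linear_combination (-U) * h1 + (-V) * h2
    have hw : t * (φ u : P) - (φ w : P) = V := by
      refine mul_left_cancel₀ h3 ?_
      have h1 : t ^ 4 = t ^ 3 * d₁ w := hd₁ w
      have h2 : -(t ^ 3) = t ^ 3 * d₂ w := hd₂ w
      rw [hu]
      show t ^ 3 * (t * U - (d₁ w * U + d₂ w * V)) = t ^ 3 * V
      linear_combination U * h1 + V * h2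
    refine ⟨φ, Prod.ext (funext fun j => ?_) (funext fun j => ?_)⟩
    · show PowerSeries.coeff j.1 (φ u : P) = x.1 j
      rw [hu, map_sum, Finset.sum_eq_single j (fun b _ hb => by
        simp [PowerSeries.coeff_X_pow, Fin.val_ne_of_ne hb.symm])
        (fun h => absurd (Finset.mem_univ j) h)]
      simp
    · show PowerSeries.coeff j.1 (t * (φ u : P) - (φ w : P)) = x.2 j
      rw [hw, map_sum, Finset.sum_eq_single j (fun b _ hb => by
        simp [PowerSeries.coeff_X_pow, Fin.val_ne_of_ne hb.symm])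
        (fun h => absurd (Finset.mem_univ j) h)]
      simp
  · obtain ⟨n₁, hn₁⟩ : t ^ 3 ∣ (φ u : P) := PowerSeries.X_pow_dvd_iff.2 fun m hm =>
      congrFun (congrArg Prod.fst h) ⟨m, hm⟩
    obtain ⟨n₂, hn₂⟩ : t ^ 3 ∣ t * (φ u : P) - (φ w : P) := PowerSeries.X_pow_dvd_iff.2 fun m hm =>
      congrFun (congrArg Prod.snd h) ⟨m, hm⟩
    refine ⟨(0 : A →ₗ[A] M).coprod ((LinearMap.toSpanSingleton A M ⟨n₁, htop _⟩).coprod
      (LinearMap.toSpanSingleton A M ⟨n₂, htop _⟩)), LinearMap.ext fun x => Subtype.ext ?_⟩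
    refine mul_left_cancel₀ (pow_ne_zero 3 PowerSeries.X_ne_zero) ?_
    rw [hφ φ x, hn₂, hn₁]
    simp [Subalgebra.smul_def]
    ring
  · rintro ⟨ψ, rfl⟩
    have hd : ∀ (y : A × A × A), t ^ 3 ∣ (y.1 : P) → t ^ 3 ∣ (y.2.1 : P) → t ^ 3 ∣ (y.2.2 : P) →
        t ^ 3 ∣ (ψ y : P) := by
      intro y ha hb hc
      rw [show y = y.1 • ((1, 0, 0) : A × A × A) +
        y.2.1 • ((0, 1, 0) : A × A × A) + y.2.2 • ((0, 0, 1) : A × A × A) by simp]
      simp only [map_add, map_smul, Submodule.coe_add, SetLike.val_smul, Subalgebra.smul_def,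
        smul_eq_mul]
      exact dvd_add (dvd_add (ha.mul_right _) (hb.mul_right _)) (hc.mul_right _)
    have h4 : t ^ 3 ∣ t ^ 4 := pow_dvd_pow _ (by omega)
    have hz : t ^ 3 ∣ ((0 : A) : P) := by simp
    have du : t ^ 3 ∣ (ψ (-q4, q3, 0) : P) := hd _ (by simpa [q4] using h4) dvd_rfl hz
    have dw : t ^ 3 ∣ (ψ (0, q4, -q3) : P) := hd _ hz h4 (by simp [q3])
    exact Prod.ext (funext fun j => PowerSeries.X_pow_dvd_iff.1 du j.1 j.2)
      (funext fun j => PowerSeries.X_pow_dvd_iff.1 (dvd_sub (du.mul_left t) dw) j.1 j.2)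

end Groth.Agent.CubicalExt15.Monomial
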