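import Groth.Agent.CubicalExt15.Basic

/-! `Ext¹` between monomial modules with two generators over a monomial subring of `k[[t]]`. -/

set_option autoImplicit false
set_option backward.isDefEq.respectTransparency false

universe u

open CategoryTheory CategoryTheory.Abelian

namespace Groth.Agent.CubicalExt15.Monomial

variable {k : Type u} [Field k] {A : Subalgebra k (PowerSeries k)}

local notation "P" => PowerSeries k
local notation "t" => (PowerSeries.X : PowerSeries k)

/-- `A` consists of the power series with exponents in `Γ`. -/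
def IsMonomial (Γ : AddSubmonoid ℕ) (A : Subalgebra k (PowerSeries k)) : Prop :=
  ∀ f : PowerSeries k, f ∈ A ↔ ∀ e : ℕ, PowerSeries.coeff e f ≠ 0 → e ∈ Γ

/-- A set of exponents stable under `Γ`. -/
def Stable (Γ : AddSubmonoid ℕ) (S : Set ℕ) : Prop := ∀ γ ∈ Γ, ∀ s ∈ S, γ + s ∈ S

set_option synthInstance.maxHeartbeats 200000
set_option maxHeartbeats 1000000

noncomputable local instance (T : Submodule A (PowerSeries k)) : AddCommGroup T := T.addCommGroup

variable {Γ : AddSubmonoid ℕ}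

/-- The series with exponents in `S`. -/
def Mon (hA : IsMonomial Γ A) (S : Set ℕ) (hS : Stable Γ S) : Submodule A P where
  carrier := {f | ∀ e, PowerSeries.coeff e f ≠ 0 → e ∈ S}
  zero_mem' := fun e h => absurd (map_zero _) h
  add_mem' := fun {a b} ha hb e h => by
    by_contra hc
    exact h (by rw [map_add, not_not.1 (mt (ha e) hc), not_not.1 (mt (hb e) hc), add_zero])
  smul_mem' := fun a f hf e h => by
    rw [Subalgebra.smul_def, smul_eq_mul, PowerSeries.coeff_mul] at h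
    obtain ⟨⟨p, q⟩, hpq, hne⟩ := Finset.exists_ne_zero_of_sum_ne_zero h
    replace hpq := Finset.HasAntidiagonal.mem_antidiagonal.1 hpq
    have := hS p ((hA _).1 a.2 p (left_ne_zero_of_mul hne)) q (hf q (right_ne_zero_of_mul hne))
    rwa [hpq] at this

theorem mem_Mon {hA : IsMonomial Γ A} {S : Set ℕ} {hS : Stable Γ S} {f : P} :
    f ∈ Mon hA S hS ↔ ∀ e, PowerSeries.coeff e f ≠ 0 → e ∈ S := Iff.rfl

theorem coeff_eq_zero {hA : IsMonomial Γ A} {S : Set ℕ} {hS : Stable Γ S} {f : P}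
    (hf : f ∈ Mon hA S hS) {e : ℕ} (he : e ∉ S) : PowerSeries.coeff e f = 0 :=
  not_not.1 (mt (hf e) he)

theorem X_pow_mem {hA : IsMonomial Γ A} {S : Set ℕ} {hS : Stable Γ S} {e : ℕ} (he : e ∈ S) :
    t ^ e ∈ Mon hA S hS := by
  intro p hp
  rw [PowerSeries.coeff_X_pow] at hp
  split_ifs at hp with h
  · exact h ▸ he
  · exact absurd rfl hp

theorem mem_shift {hA : IsMonomial Γ A} {S S' : Set ℕ} {hS : Stable Γ S} {hS' : Stable Γ S'}
    {f : P} (hf : f ∈ Mon hA S hS) (a : ℕ) (h : ∀ s ∈ S, a + s ∈ S') :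
    t ^ a * f ∈ Mon hA S' hS' := by
  intro e he
  by_cases hle : a ≤ e
  · obtain ⟨d, rfl⟩ := Nat.exists_eq_add_of_le hle
    rw [add_comm a d, PowerSeries.coeff_X_pow_mul] at he
    exact h d (hf d he)
  · exact absurd (PowerSeries.X_pow_dvd_iff.1 (dvd_mul_right _ f) e (by omega)) he

theorem exists_decomp {hA : IsMonomial Γ A} {S U : Set ℕ} {hS : Stable Γ S} {hU : Stable Γ U}
    (a b : ℕ) (hU' : ∀ e ∈ U, (∃ s ∈ S, e = a + s) ∨ ∃ s ∈ S, e = b + s) {f : P}
    (hf : f ∈ Mon hA U hU) :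
    ∃ f₁ f₂ : P, f₁ ∈ Mon hA S hS ∧ f₂ ∈ Mon hA S hS ∧ f = t ^ a * f₁ + t ^ b * f₂ := by
  classical
  let f₁ : P := PowerSeries.mk fun p => if p ∈ S then PowerSeries.coeff (a + p) f else 0
  let f₂ : P := PowerSeries.mk fun p =>
    if p ∈ S ∧ ¬ ∃ s ∈ S, b + p = a + s then PowerSeries.coeff (b + p) f else 0
  refine ⟨f₁, f₂, fun e he => ?_, fun e he => ?_, PowerSeries.ext fun e => ?_⟩
  · simp only [f₁, PowerSeries.coeff_mk] at he
    split_ifs at he with h
    · exact h
    · exact absurd rfl he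
  · simp only [f₂, PowerSeries.coeff_mk] at he
    split_ifs at he with h
    · exact h.1
    · exact absurd rfl he
  · rw [map_add, PowerSeries.coeff_X_pow_mul', PowerSeries.coeff_X_pow_mul']
    simp only [f₁, f₂, PowerSeries.coeff_mk]
    by_cases h1 : ∃ s ∈ S, e = a + s
    · obtain ⟨s, hs, rfl⟩ := h1
      rw [if_pos (Nat.le_add_right a s), Nat.add_sub_cancel_left, if_pos hs]
      have : (if b ≤ a + s then if a + s - b ∈ S ∧ ¬ ∃ s' ∈ S, b + (a + s - b) = a + s' then
          PowerSeries.coeff (b + (a + s - b)) f else 0 else 0) = 0 := by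
        split_ifs with h h'
        · exact absurd ⟨s, hs, Nat.add_sub_of_le h⟩ h'.2
        · rfl
        · rfl
      rw [this, add_zero]
    · have : (if a ≤ e then if e - a ∈ S then PowerSeries.coeff (a + (e - a)) f else 0 else 0) =
          0 := by
        split_ifs with h h'
        · exact absurd ⟨e - a, h', (Nat.add_sub_of_le h).symm⟩ h1
        · rfl
        · rfl
      rw [this, zero_add]
      by_cases he : e ∈ U
      · obtain h | ⟨s, hs, rfl⟩ := hU' e he
        · exact absurd h h1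
        · rw [if_pos (Nat.le_add_right b s), Nat.add_sub_cancel_left, if_pos ⟨hs, h1⟩]
      · rw [coeff_eq_zero hf he]
        split_ifs with h h'
        · rw [Nat.add_sub_of_le h, coeff_eq_zero hf he]
        · rfl
        · rfl

theorem ev_mul (hA : IsMonomial Γ A) (a : A) (f : P) (e : ℕ)
    (hf : ∀ γ ∈ Γ, γ ≠ 0 → γ ≤ e → PowerSeries.coeff (e - γ) f = 0) :
    PowerSeries.coeff e ((a : P) * f) = ev A a * PowerSeries.coeff e f := by
  rw [PowerSeries.coeff_mul, Finset.sum_eq_single (0, e)]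
  · rw [PowerSeries.coeff_zero_eq_constantCoeff, ev_apply]
  · rintro ⟨p, q⟩ hpq hne
    replace hpq := Finset.HasAntidiagonal.mem_antidiagonal.1 hpq
    dsimp only at hpq ⊢
    by_cases hp : PowerSeries.coeff p (a : P) = 0
    · rw [hp, zero_mul]
    · have hp0 : p ≠ 0 := fun h => hne (Prod.ext h (by omega))
      rw [show q = e - p by omega, hf p ((hA _).1 a.2 p hp) hp0 (by omega), mul_zero]
  · simp

theorem length_quot (hA : IsMonomial Γ A) {S T : Set ℕ} (hS : Stable Γ S) (hT : Stable Γ T)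
    (hST : S ⊆ T) (D : Finset ℕ) (hD : ∀ e, e ∈ D ↔ e ∈ T ∧ e ∉ S) :
    Module.length A (Mon hA T hT ⧸ (Mon hA S hS).comap (Mon hA T hT).subtype) =
      (D.card : ℕ∞) := by
  classical
  induction hn : D.card generalizing S D with
  | zero =>
    rw [Nat.cast_zero, Module.length_eq_zero_iff, Submodule.Quotient.subsingleton_iff, eq_top_iff]
    rintro ⟨f, hf⟩ _ e he
    by_contra hes
    rw [Finset.card_eq_zero] at hn
    have := (hD e).2 ⟨hf e he, hes⟩
    rw [hn] at this
    simp at this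
  | succ d IH =>
    have hne : D.Nonempty := Finset.card_pos.1 (by omega)
    obtain ⟨e, heD, hmax⟩ : ∃ e ∈ D, ∀ x ∈ D, x ≤ e :=
      ⟨D.max' hne, D.max'_mem hne, fun x hx => D.le_max' x hx⟩
    obtain ⟨heT, heS⟩ := (hD e).1 heD
    have hS' : Stable Γ (insert e S) := by
      intro γ hγ s hs
      rcases hs with rfl | hs
      · rcases Nat.eq_zero_or_pos γ with rfl | hpos
        · simp
        · refine Or.inr ?_
          by_contra hc
          have := hmax _ ((hD _).2 ⟨hT γ hγ s heT, hc⟩)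
          omega
      · exact Or.inr (hS γ hγ s hs)
    have hS'T : insert e S ⊆ T := Set.insert_subset heT hST
    have hIH := IH hS' hS'T (D.erase e) (fun x => by
      simp only [Finset.mem_erase, hD, Set.mem_insert_iff, not_or]; tauto)
      (by rw [Finset.card_erase_of_mem heD]; omega)
    set W := (Mon hA S hS).comap (Mon hA T hT).subtype with hW
    set W' := (Mon hA (insert e S) hS').comap (Mon hA T hT).subtype with hW'
    have hWW : W ≤ W' := fun x hx p hp => Or.inr (hx p hp)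
    have hex : Function.Exact (W'.map W.mkQ).subtype (W.mapQ W' LinearMap.id hWW) := by
      intro x
      obtain ⟨x, rfl⟩ := Submodule.Quotient.mk_surjective W x
      constructor
      · intro h
        rw [Submodule.mapQ_apply, LinearMap.id_apply, Submodule.Quotient.mk_eq_zero] at h
        exact ⟨⟨_, x, h, rfl⟩, rfl⟩
      · rintro ⟨⟨y, z, hz, rfl⟩, h⟩
        rw [← h]
        exact (Submodule.Quotient.mk_eq_zero W').2 hz
    rw [Module.length_eq_add_of_exact _ _ (Submodule.injective_subtype _)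
      (fun y => by
        obtain ⟨y, rfl⟩ := Submodule.Quotient.mk_surjective W' y
        exact ⟨Submodule.Quotient.mk y, rfl⟩) hex, hIH, add_comm, Nat.cast_succ]
    congr 1
    let g : W' →ₗ[A] W'.map W.mkQ := (W.mkQ ∘ₗ W'.subtype).codRestrict _
      fun x => ⟨x.1, x.2, rfl⟩
    have hg : Function.Surjective g := by
      rintro ⟨y, z, hz, rfl⟩
      exact ⟨⟨z, hz⟩, rfl⟩
    rw [← length_eq_of_ker (σ := RingHom.id A) (H := W') (X := W'.map W.mkQ) g hg (LinearMap.ker g) (fun x => (LinearMap.mem_ker).symm)]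
    let F : W' →ₛₗ[ev A] k :=
      { toFun := fun x => PowerSeries.coeff e (x.1.1 : P)
        map_add' := fun x y => map_add _ _ _
        map_smul' := fun a x => by
          refine ev_mul hA a x.1.1 e fun γ hγ h0 hle => ?_
          by_contra hne
          rcases x.2 _ hne with h | h
          · omega
          · exact heS (by simpa [Nat.add_sub_of_le hle] using hS γ hγ _ h) }
    rw [length_eq_of_ker (σ := ev A) (H := W') (X := k) F (fun c => ?_) _ (fun x => ?_), Module.length_eq_finrank,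
      Module.finrank_self, Nat.cast_one]
    · have hc : PowerSeries.C c * t ^ e ∈ Mon hA (insert e S) hS' := by
        intro p hp
        rw [PowerSeries.coeff_C_mul, PowerSeries.coeff_X_pow] at hp
        split_ifs at hp with h
        · exact Or.inl h
        · exact absurd (mul_zero c) hp
      exact ⟨⟨⟨_, fun p hp => hS'T (hc p hp)⟩, hc⟩, by simp [F]⟩
    · rw [LinearMap.mem_ker]
      constructor
      · intro h
        apply Subtype.ext
        refine (Submodule.Quotient.mk_eq_zero W).2 fun p hp => ?_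
        rcases x.2 p hp with h' | h'
        · exact absurd (show PowerSeries.coeff p (x.1.1 : P) = 0 by rw [h']; exact h) hp
        · exact h'
      · intro h
        have h' : x.1 ∈ W := (Submodule.Quotient.mk_eq_zero W).1 (congrArg Subtype.val h)
        exact coeff_eq_zero (hA := hA) (hS := hS) h' heS

theorem stable_hom {S T : Set ℕ} (hS : Stable Γ S) :
    Stable Γ {e | ∀ s ∈ T, e + s ∈ S} := fun γ hγ e he s hs => by
  rw [add_assoc]; exact hS γ hγ _ (he s hs)

theorem stable_img {S : Set ℕ} (hS : Stable Γ S) (a b : ℕ) :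
    Stable Γ {e | (∃ s ∈ S, e = a + s) ∨ ∃ s ∈ S, e = b + s} := fun γ hγ e he => by
  rcases he with ⟨s, hs, rfl⟩ | ⟨s, hs, rfl⟩
  · exact Or.inl ⟨γ + s, hS γ hγ s hs, by ring⟩
  · exact Or.inr ⟨γ + s, hS γ hγ s hs, by ring⟩

theorem stable_pair (g : ℕ) : Stable Γ {e | e ∈ Γ ∨ ∃ s ∈ Γ, e = g + s} := fun γ hγ e he => by
  rcases he with h | ⟨s, hs, rfl⟩
  · exact Or.inl (Γ.add_mem hγ h)
  · exact Or.inr ⟨γ + s, Γ.add_mem hγ hs, by ring⟩

theorem span_pair_eq (hA : IsMonomial Γ A) (g : ℕ) :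
    Submodule.span A ({1, t ^ g} : Set P) =
      Mon hA {e | e ∈ Γ ∨ ∃ s ∈ Γ, e = g + s} (stable_pair g) := by
  refine le_antisymm (Submodule.span_le.2 ?_) fun f hf => ?_
  · rintro x (rfl | rfl)
    · rw [← pow_zero t]
      exact X_pow_mem (Or.inl Γ.zero_mem)
    · exact X_pow_mem (Or.inr ⟨0, Γ.zero_mem, rfl⟩)
  · obtain ⟨f₁, f₂, h₁, h₂, rfl⟩ :=
      exists_decomp (hS := fun γ hγ s hs => Γ.add_mem hγ hs) (S := (Γ : Set ℕ)) 0 g
        (fun e he => he.imp (fun h => ⟨e, h, (zero_add e).symm⟩) id) hf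
    rw [Submodule.mem_span_pair]
    exact ⟨⟨f₁, (hA _).2 h₁⟩, ⟨f₂, (hA _).2 h₂⟩, by simp [Subalgebra.smul_def, mul_comm]⟩

theorem linearMap_apply (hA : IsMonomial Γ A) (c : ℕ) (hc : ∀ e, c ≤ e → e ∈ Γ)
    {N : Submodule A P} (h1 : (1 : P) ∈ N) (φ : N →ₗ[A] P) (x : N) :
    φ x = (x : P) * φ ⟨1, h1⟩ := by
  have hm : ∀ f : P, t ^ c * f ∈ A := fun f => (hA _).2 fun e he => hc e (by
    by_contra hlt
    exact he (PowerSeries.X_pow_dvd_iff.1 (dvd_mul_right _ f) e (by omega)))
  have h2 : (⟨t ^ c * (x : P), hm _⟩ : A) • (⟨1, h1⟩ : N) = (⟨t ^ c * 1, hm _⟩ : A) • x :=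
    Subtype.ext (show t ^ c * (x : P) * 1 = t ^ c * 1 * (x : P) by ring)
  have h3 := congrArg φ h2
  rw [φ.map_smul, φ.map_smul] at h3
  simp only [Subalgebra.smul_def, smul_eq_mul, mul_one] at h3
  refine mul_left_cancel₀ (pow_ne_zero c PowerSeries.X_ne_zero) ?_
  rw [← h3, mul_assoc]

theorem length_ext_pair (hA : IsMonomial Γ A) (c : ℕ) (hc : ∀ e, c ≤ e → e ∈ Γ)
    (g a : ℕ) (T : Set ℕ) (hT : Stable Γ T) (hT0 : (0 : ℕ) ∈ T)
    (hKT : ∀ e, (e ∈ Γ ∧ e + g ∈ Γ) ↔ ∃ s ∈ T, e = a + s)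
    (S : Set ℕ) (hS : Stable Γ S) (N : Submodule A P) (hN : N = Mon hA S hS) (D : Finset ℕ)
    (hD : ∀ e, e ∈ D ↔ (∀ s ∈ T, e + s ∈ S) ∧
      ¬((∃ s ∈ S, e = a + s) ∨ ∃ s ∈ S, e = a + g + s)) :
    Module.length A (Ext (ModuleCat.of A (Submodule.span A ({1, t ^ g} : Set P)))
      (ModuleCat.of A N) 1) = (D.card : ℕ∞) := by
  subst hN
  set M := Submodule.span A ({1, t ^ g} : Set P) with hM
  let e₀ : M := ⟨1, Submodule.subset_span (Or.inl rfl)⟩
  let e₁ : M := ⟨t ^ g, Submodule.subset_span (Or.inr rfl)⟩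
  let π : (A × A) →ₗ[A] M :=
    (LinearMap.toSpanSingleton A M e₀).coprod (LinearMap.toSpanSingleton A M e₁)
  have hπ : ∀ x : A × A, (π x : P) = (x.1 : P) + (x.2 : P) * t ^ g := fun x => by
    simp [π, e₀, e₁, Subalgebra.smul_def]
  have hπs : Function.Surjective π := by
    rintro ⟨y, hy⟩
    obtain ⟨x₁, x₂, rfl⟩ := Submodule.mem_span_pair.1 hy
    exact ⟨(x₁, x₂), Subtype.ext (by rw [hπ]; simp [Subalgebra.smul_def])⟩
  let MT := Mon hA T hT
  have hT1 : (1 : P) ∈ MT := by rw [← pow_zero t]; exact X_pow_mem hT0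
  have hm1 : ∀ x : MT, -(t ^ (a + g) * (x : P)) ∈ A := fun x => neg_mem ((hA _).2
    (mem_shift (hA := hA) (hS' := fun γ hγ s hs => Γ.add_mem hγ hs) x.2 (a + g) fun s hs => by
      simpa [add_right_comm] using ((hKT (a + s)).2 ⟨s, hs, rfl⟩).2))
  have hm2 : ∀ x : MT, t ^ a * (x : P) ∈ A := fun x => (hA _).2
    (mem_shift (hA := hA) (hS' := fun γ hγ s hs => Γ.add_mem hγ hs) x.2 a fun s hs =>
      ((hKT (a + s)).2 ⟨s, hs, rfl⟩).1)
  let ι : MT →ₗ[A] A × A :=
    { toFun := fun x => (⟨_, hm1 x⟩, ⟨_, hm2 x⟩)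
      map_add' := fun x y => Prod.ext
        (Subtype.ext (show -(t ^ (a + g) * ((x : P) + y)) = -(t ^ (a + g) * x) + -(t ^ (a + g) * y)
          by ring))
        (Subtype.ext (mul_add _ _ _))
      map_smul' := fun r x => Prod.ext
        (Subtype.ext (show -(t ^ (a + g) * ((r : P) * x)) = (r : P) * -(t ^ (a + g) * x) by ring))
        (Subtype.ext (show t ^ a * ((r : P) * x) = (r : P) * (t ^ a * x) by ring)) }
  have hι : Function.Injective ι := fun x y h => Subtype.ext
    (mul_left_cancel₀ (pow_ne_zero a PowerSeries.X_ne_zero)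
      (congrArg (fun z : A × A => (z.2 : P)) h))
  have hex : Function.Exact ι π := by
    rintro ⟨b₀, b₁⟩
    constructor
    · intro h
      have h' := congrArg Subtype.val h
      rw [hπ] at h'
      have hb : ∀ e, PowerSeries.coeff e (b₁ : P) ≠ 0 → e ∈ Γ ∧ e + g ∈ Γ := fun e he =>
        ⟨(hA _).1 b₁.2 e he, (hA _).1 b₀.2 _ (by
          rw [eq_neg_of_add_eq_zero_left h', map_neg, PowerSeries.coeff_mul_X_pow]
          exact neg_ne_zero.2 he)⟩
      have hdvd : t ^ a ∣ (b₁ : P) := PowerSeries.X_pow_dvd_iff.2 fun e he => by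
        by_contra hne
        obtain ⟨s, _, rfl⟩ := (hKT e).1 (hb e hne)
        omega
      obtain ⟨x, hx⟩ := hdvd
      have hxm : x ∈ MT := by
        intro e he
        rw [← PowerSeries.coeff_X_pow_mul x a e, ← hx] at he
        obtain ⟨s, hs, hes⟩ := (hKT _).1 (hb _ he)
        rwa [show e = s by omega]
      refine ⟨⟨x, hxm⟩, Prod.ext (Subtype.ext ?_) (Subtype.ext hx.symm)⟩
      show -(t ^ (a + g) * x) = (b₀ : P)
      rw [eq_neg_of_add_eq_zero_left h', hx, pow_add]
      ring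
    · rintro ⟨x, hx⟩
      apply Subtype.ext
      rw [← hx, hπ, ZeroMemClass.coe_zero]
      show -(t ^ (a + g) * (x : P)) + t ^ a * (x : P) * t ^ g = 0
      rw [pow_add]
      ring
  obtain ⟨p, hp, hker⟩ := CAlgH3.exists_ext_one_presentation ↥(Mon hA S hS) hι hπs hex
  rw [← (p.quotKerEquivOfSurjective hp).length_eq, hker]
  let H : Set ℕ := {e | ∀ s ∈ T, e + s ∈ S}
  let I : Set ℕ := {e | (∃ s ∈ S, e = a + s) ∨ ∃ s ∈ S, e = a + g + s}
  let MH := Mon hA H (stable_hom hS)
  have hIH : I ⊆ H := by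
    rintro e (⟨s, hs, rfl⟩ | ⟨s, hs, rfl⟩) r hr
    · simpa [add_right_comm] using hS _ ((hKT (a + r)).2 ⟨r, hr, rfl⟩).1 s hs
    · simpa [add_right_comm, add_assoc, add_left_comm] using
        hS _ ((hKT (a + r)).2 ⟨r, hr, rfl⟩).2 s hs
  have hval : ∀ (φ : MT →ₗ[A] Mon hA S hS) (x : MT),
      (φ x : P) = (x : P) * (φ ⟨1, hT1⟩ : P) :=
    fun φ x => linearMap_apply hA c hc hT1 ((Mon hA S hS).subtype ∘ₗ φ) x
  have hvH : ∀ φ : MT →ₗ[A] Mon hA S hS, (φ ⟨1, hT1⟩ : P) ∈ MH := by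
    intro φ e he s hs
    refine (φ ⟨t ^ s, X_pow_mem hs⟩).2 (e + s) ?_
    rw [hval, PowerSeries.coeff_X_pow_mul]
    exact he
  let E : (MT →ₗ[A] Mon hA S hS) →ₗ[A] MH :=
    { toFun := fun φ => ⟨_, hvH φ⟩
      map_add' := fun φ ψ => rfl
      map_smul' := fun r φ => rfl }
  have hEinj : Function.Injective E := fun φ ψ h => LinearMap.ext fun x => Subtype.ext (by
    rw [hval φ, hval ψ]; exact congrArg (fun z : MH => (x : P) * (z : P)) h)
  have hEsurj : Function.Surjective E := by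
    rintro ⟨u, hu⟩
    have hmem : ∀ x : MT, (x : P) * u ∈ Mon hA S hS := by
      intro x e he
      rw [PowerSeries.coeff_mul] at he
      obtain ⟨⟨p, q⟩, hpq, hne⟩ := Finset.exists_ne_zero_of_sum_ne_zero he
      replace hpq := Finset.HasAntidiagonal.mem_antidiagonal.1 hpq
      have := hu q (right_ne_zero_of_mul hne) p (x.2 p (left_ne_zero_of_mul hne))
      rwa [← hpq, add_comm]
    exact ⟨(LinearMap.mulRight A u ∘ₗ MT.subtype).codRestrict _ hmem,
      Subtype.ext (one_mul u)⟩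
  let e := LinearEquiv.ofBijective E ⟨hEinj, hEsurj⟩
  have hmap : (LinearMap.range (ι.lcomp A ↥(Mon hA S hS))).map (e : _ →ₗ[A] MH) =
      (Mon hA I (stable_img hS _ _)).comap MH.subtype := by
    ext u
    constructor
    · rintro ⟨_, ⟨ψ, rfl⟩, rfl⟩
      show (ψ (ι ⟨1, hT1⟩) : P) ∈ Mon hA I (stable_img hS a (a + g))
      have : ι ⟨1, hT1⟩ = (⟨_, hm1 ⟨1, hT1⟩⟩ : A) • ((1, 0) : A × A) +
          (⟨_, hm2 ⟨1, hT1⟩⟩ : A) • ((0, 1) : A × A) := by
        refine Prod.ext ?_ ?_ <;> simp [ι]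
      rw [this, map_add, map_smul, map_smul]
      simp only [Submodule.coe_add, SetLike.val_smul, Subalgebra.smul_def, smul_eq_mul, mul_one,
        neg_mul]
      refine add_mem (neg_mem (mem_shift (ψ (1, 0)).2 _ fun s hs => Or.inr ⟨s, hs, rfl⟩))
        (mem_shift (ψ (0, 1)).2 _ fun s hs => Or.inl ⟨s, hs, rfl⟩)
    · intro hu
      obtain ⟨f₁, f₂, h₁, h₂, hf⟩ := exists_decomp (hS := hS) a (a + g) (fun e he => he)
        (show (u : P) ∈ Mon hA I (stable_img hS _ _) from hu)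
      refine ⟨ι.lcomp A _ ((LinearMap.toSpanSingleton A (Mon hA S hS) ⟨-f₂, neg_mem h₂⟩).coprod
        (LinearMap.toSpanSingleton A (Mon hA S hS) ⟨f₁, h₁⟩)), ⟨_, rfl⟩, Subtype.ext ?_⟩
      show -(t ^ (a + g) * 1) * -f₂ + t ^ a * 1 * f₁ = (u : P)
      rw [hf]
      ring
  rw [(Submodule.Quotient.equiv _ _ e hmap).length_eq]
  exact length_quot hA (stable_img hS _ _) (stable_hom hS) hIH D hD

end Groth.Agent.CubicalExt15.Monomial
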