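import Groth.Agent.CubicalExt15.Basic

/-! `Ext¹` between rank one modules over `{(f, g) | f ≡ g mod t^δ}`. -/

set_option autoImplicit false
set_option backward.isDefEq.respectTransparency false
set_option synthInstance.maxHeartbeats 200000
set_option maxHeartbeats 1000000

universe u

open CategoryTheory CategoryTheory.Abelian

namespace Groth.Agent.CubicalExt15.TwoBranch

theorem length_quot_step {R : Type*} [CommRing R] {S : Type*} [Field S] {σ : R →+* S}
    [RingHomSurjective σ] {Q : Type*} [AddCommGroup Q] [Module R Q] (W W' : Submodule R Q)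
    (hWW : W ≤ W') (f : W' →ₛₗ[σ] S) (hf : Function.Surjective f)
    (hk : ∀ x : W', f x = 0 ↔ (x : Q) ∈ W) :
    Module.length R (Q ⧸ W) = Module.length R (Q ⧸ W') + 1 := by
  have hex : Function.Exact (W'.map W.mkQ).subtype (W.mapQ W' LinearMap.id hWW) := by
    intro x
    obtain ⟨x, rfl⟩ := Submodule.Quotient.mk_surjective W x
    constructor
    · intro h
      rw [Submodule.mapQ_apply, LinearMap.id_apply, Submodule.Quotient.mk_eq_zero] at h
      exact ⟨⟨_, x, h, rfl⟩, rfl⟩
    · rintro ⟨⟨y, z, hz, rfl⟩, h⟩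
      rw [← h]
      exact (Submodule.Quotient.mk_eq_zero W').2 hz
  rw [Module.length_eq_add_of_exact _ _ (Submodule.injective_subtype _)
    (fun y => by
      obtain ⟨y, rfl⟩ := Submodule.Quotient.mk_surjective W' y
      exact ⟨Submodule.Quotient.mk y, rfl⟩) hex, add_comm]
  congr 1
  let g : W' →ₗ[R] W'.map W.mkQ := (W.mkQ ∘ₗ W'.subtype).codRestrict _ fun x => ⟨x.1, x.2, rfl⟩
  have hg : Function.Surjective g := by
    rintro ⟨y, z, hz, rfl⟩
    exact ⟨⟨z, hz⟩, rfl⟩
  rw [← length_eq_of_ker (σ := RingHom.id R) g hg (LinearMap.ker g) (fun x => LinearMap.mem_ker.symm),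
    length_eq_of_ker f hf _ (fun x => ?_), Module.length_eq_finrank, Module.finrank_self,
    Nat.cast_one]
  rw [hk, LinearMap.mem_ker]
  constructor
  · exact fun h => Subtype.ext ((Submodule.Quotient.mk_eq_zero W).2 h)
  · exact fun h => (Submodule.Quotient.mk_eq_zero W).1 (congrArg Subtype.val h)

variable {k : Type u} [Field k] {O : Subalgebra k (PowerSeries k × PowerSeries k)} {δ : ℕ}

local notation "P" => PowerSeries k
local notation "t" => (PowerSeries.X : PowerSeries k)

noncomputable local instance (T : Submodule O (PowerSeries k × PowerSeries k)) : AddCommGroup T :=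
  T.addCommGroup

/-- `O = {(f, g) | f ≡ g mod t^δ}`. -/
def IsPair (δ : ℕ) (O : Subalgebra k (PowerSeries k × PowerSeries k)) : Prop :=
  ∀ f : PowerSeries k × PowerSeries k, f ∈ O ↔ t ^ δ ∣ f.1 - f.2

/-- The residue map. -/
noncomputable def res (O : Subalgebra k (PowerSeries k × PowerSeries k)) : O →+* k :=
  (PowerSeries.constantCoeff (R := k)).comp ((RingHom.fst P P).comp O.val.toRingHom)

theorem res_apply (a : O) : res O a = PowerSeries.constantCoeff (a : P × P).1 := rfl

instance : RingHomSurjective (res O) := ⟨fun c => ⟨algebraMap k O c, by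
  rw [res_apply, Subalgebra.coe_algebraMap, Prod.algebraMap_apply, PowerSeries.algebraMap_apply,
    PowerSeries.constantCoeff_C]; rfl⟩⟩

/-- `{u | t^α ∣ u₁, t^β ∣ u₁ - u₂}`. -/
def Box (hO : IsPair δ O) (α β : ℕ) (h : β ≤ δ + α) : Submodule O (P × P) where
  carrier := {u | t ^ α ∣ u.1 ∧ t ^ β ∣ u.1 - u.2}
  zero_mem' := by simp
  add_mem' := fun {a b} ha hb => ⟨dvd_add ha.1 hb.1, by
    have := dvd_add ha.2 hb.2
    rwa [show a.1 - a.2 + (b.1 - b.2) = (a + b).1 - (a + b).2 by simp; ring] at this⟩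
  smul_mem' := fun r u hu => ⟨hu.1.mul_left _, by
    have h1 : t ^ β ∣ ((r : P × P).1 - (r : P × P).2) * u.1 :=
      (pow_dvd_pow _ h).trans (by rw [pow_add]; exact mul_dvd_mul ((hO _).1 r.2) hu.1)
    have h2 : t ^ β ∣ (r : P × P).2 * (u.1 - u.2) := hu.2.mul_left _
    have := dvd_add h1 h2
    rwa [show ((r : P × P).1 - (r : P × P).2) * u.1 + (r : P × P).2 * (u.1 - u.2) =
      (r • u).1 - (r • u).2 by simp [Subalgebra.smul_def]; ring] at this⟩

theorem mem_Box {hO : IsPair δ O} {α β : ℕ} {h : β ≤ δ + α} {u : P × P} :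
    u ∈ Box hO α β h ↔ t ^ α ∣ u.1 ∧ t ^ β ∣ u.1 - u.2 := Iff.rfl

theorem coeff_mul_pair (hO : IsPair δ O) (r : O) (f : P) {e : ℕ} (hf : t ^ e ∣ f) :
    PowerSeries.coeff e ((r : P × P).1 * f) = res O r * PowerSeries.coeff e f := by
  obtain ⟨g, rfl⟩ := hf
  rw [show (r : P × P).1 * (t ^ e * g) = t ^ e * ((r : P × P).1 * g) by ring]
  have h : ∀ x : P, PowerSeries.coeff e (t ^ e * x) = PowerSeries.constantCoeff x := fun x => by
    rw [← PowerSeries.coeff_zero_eq_constantCoeff]
    simpa using PowerSeries.coeff_X_pow_mul x e 0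
  rw [h, h, map_mul, res_apply]

theorem length_box (hO : IsPair δ O) (hδ : 1 ≤ δ) (α β : ℕ) (h : β ≤ δ + α) :
    ∀ (x y : ℕ) (h' : β + y ≤ δ + (α + x)),
      Module.length O (Box hO α β h ⧸
        (Box hO (α + x) (β + y) h').comap (Box hO α β h).subtype) = ((x + y : ℕ) : ℕ∞) := by
  suffices ∀ n x y (h' : β + y ≤ δ + (α + x)), x + y = n →
      Module.length O (Box hO α β h ⧸
        (Box hO (α + x) (β + y) h').comap (Box hO α β h).subtype) = ((n : ℕ) : ℕ∞) from
    fun x y h' => this (x + y) x y h' rfl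
  intro n
  induction n with
  | zero =>
    intro x y h' hxy
    obtain ⟨rfl, rfl⟩ : x = 0 ∧ y = 0 := by omega
    rw [Nat.cast_zero, Module.length_eq_zero_iff, Submodule.Quotient.subsingleton_iff, eq_top_iff]
    rintro ⟨u, hu⟩ _
    exact hu
  | succ n IH =>
    intro x y h' hxy
    by_cases hc : 0 < x ∧ β + y < δ + (α + x)
    · obtain ⟨x, rfl⟩ : ∃ x', x = x' + 1 := ⟨x - 1, by omega⟩
      let F : (Box hO (α + x) (β + y) (by omega)).comap (Box hO α β h).subtype →ₛₗ[res O] k :=
        { toFun := fun u => PowerSeries.coeff (α + x) (u.1.1 : P × P).1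
          map_add' := fun u v => map_add _ _ _
          map_smul' := fun r u => coeff_mul_pair hO r _ u.2.1 }
      rw [length_quot_step ((Box hO (α + (x + 1)) (β + y) h').comap (Box hO α β h).subtype)
        ((Box hO (α + x) (β + y) (by omega)).comap (Box hO α β h).subtype)
        (fun u hu => ⟨(pow_dvd_pow _ (by omega)).trans hu.1, hu.2⟩) F (fun c => ?_) (fun u => ?_),
        IH x y _ (by omega), Nat.cast_succ]
      · let v : P := PowerSeries.C c * t ^ (α + x)
        have hv : (v, v) ∈ Box hO (α + x) (β + y) (by omega) :=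
          ⟨dvd_mul_left _ _, by simp⟩
        exact ⟨⟨⟨(v, v), ⟨(pow_dvd_pow _ (by omega)).trans hv.1, by simp⟩⟩, hv⟩, by simp [F, v]⟩
      · constructor
        · intro h0
          refine ⟨PowerSeries.X_pow_dvd_iff.2 fun m hm => ?_, u.2.2⟩
          rcases eq_or_lt_of_le (Nat.lt_succ_iff.1 (show m < (α + x) + 1 by omega)) with rfl | hlt
          · exact h0
          · exact PowerSeries.X_pow_dvd_iff.1 u.2.1 m hlt
        · intro hu
          exact PowerSeries.X_pow_dvd_iff.1 hu.1 _ (by omega)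
    · obtain ⟨y, rfl⟩ : ∃ y', y = y' + 1 := ⟨y - 1, by omega⟩
      let F : (Box hO (α + x) (β + y) (by omega)).comap (Box hO α β h).subtype →ₛₗ[res O] k :=
        { toFun := fun u => PowerSeries.coeff (β + y) ((u.1.1 : P × P).1 - (u.1.1 : P × P).2)
          map_add' := fun u v => by
            rw [← map_add]
            congr 1
            show (u.1.1 + v.1.1).1 - (u.1.1 + v.1.1).2 = _
            simp only [Prod.fst_add, Prod.snd_add]
            ring
          map_smul' := fun r u => by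
            show PowerSeries.coeff (β + y) ((r : P × P).1 * (u.1.1 : P × P).1 -
              (r : P × P).2 * (u.1.1 : P × P).2) = res O r * _
            rw [show (r : P × P).1 * (u.1.1 : P × P).1 - (r : P × P).2 * (u.1.1 : P × P).2 =
              ((r : P × P).1 - (r : P × P).2) * ((u.1.1 : P × P).1) +
              ((r : P × P).1 * ((u.1.1 : P × P).1 - (u.1.1 : P × P).2) -
              ((r : P × P).1 - (r : P × P).2) * ((u.1.1 : P × P).1 - (u.1.1 : P × P).2)) by ring,
              map_add, map_sub,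
              coeff_mul_pair hO r ((u.1.1 : P × P).1 - (u.1.1 : P × P).2) u.2.2]
            have d1 : t ^ (δ + (α + x)) ∣
                ((r : P × P).1 - (r : P × P).2) * ((u.1.1 : P × P).1) := by
              rw [pow_add]; exact mul_dvd_mul ((hO _).1 r.2) u.2.1
            have d2 : t ^ (δ + (β + y)) ∣ ((r : P × P).1 - (r : P × P).2) *
                ((u.1.1 : P × P).1 - (u.1.1 : P × P).2) := by
              rw [pow_add]; exact mul_dvd_mul ((hO _).1 r.2) u.2.2
            have e1 := PowerSeries.X_pow_dvd_iff.1 d1 (β + y) (by omega)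
            have e2 := PowerSeries.X_pow_dvd_iff.1 d2 (β + y) (by omega)
            rw [e1, e2, zero_add, sub_zero] }
      rw [length_quot_step ((Box hO (α + x) (β + (y + 1)) h').comap (Box hO α β h).subtype)
        ((Box hO (α + x) (β + y) (by omega)).comap (Box hO α β h).subtype)
        (fun u hu => ⟨hu.1, (pow_dvd_pow _ (by omega)).trans hu.2⟩) F (fun c => ?_) (fun u => ?_),
        IH x y _ (by omega), Nat.cast_succ]
      · let v : P := PowerSeries.C c * t ^ (β + y)
        have hv : ((0 : P), -v) ∈ Box hO (α + x) (β + y) (by omega) :=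
          ⟨dvd_zero _, by simp [v]⟩
        exact ⟨⟨⟨_, ⟨dvd_zero _, (pow_dvd_pow _ (by omega)).trans hv.2⟩⟩, hv⟩, by simp [F, v]⟩
      · constructor
        · intro h0
          refine ⟨u.2.1, PowerSeries.X_pow_dvd_iff.2 fun m hm => ?_⟩
          rcases eq_or_lt_of_le (Nat.lt_succ_iff.1 (show m < (β + y) + 1 by omega)) with rfl | hlt
          · exact h0
          · exact PowerSeries.X_pow_dvd_iff.1 u.2.2 m hlt
        · intro hu
          exact PowerSeries.X_pow_dvd_iff.1 hu.2 _ (by omega)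

theorem mem_diag (hO : IsPair δ O) (f : P) : (f, f) ∈ O := (hO _).2 (by simp)

theorem mem_left (hO : IsPair δ O) (f : P) : (t ^ δ * f, 0) ∈ O := (hO _).2 (by simp)

theorem span_eq (hO : IsPair δ O) {i : ℕ} (hi : i ≤ δ) :
    Submodule.span O ({(t ^ i, t ^ i), (t ^ δ, 0)} : Set (P × P)) = Box hO i δ (by omega) := by
  refine le_antisymm (Submodule.span_le.2 ?_) fun u hu => ?_
  · rintro x (rfl | rfl)
    · exact ⟨dvd_rfl, by simp⟩
    · exact ⟨pow_dvd_pow _ hi, by simp⟩
  · obtain ⟨⟨a, ha⟩, ⟨b, hb⟩⟩ := hu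
    obtain ⟨d, hd⟩ := Nat.exists_eq_add_of_le hi
    refine Submodule.mem_span_pair.2
      ⟨⟨(a - t ^ d * b, a - t ^ d * b), mem_diag hO _⟩, ⟨(b, b), mem_diag hO _⟩, ?_⟩
    refine Prod.ext ?_ ?_
    · simp [Subalgebra.smul_def, ha, hd, pow_add]; ring
    · simp [Subalgebra.smul_def]
      rw [show u.2 = u.1 - (u.1 - u.2) by ring, hb, ha, hd, pow_add]
      ring

theorem length_ext_box (hO : IsPair δ O) (hδ : 1 ≤ δ) (i j : ℕ) (hi : i ≤ δ) (hj : j ≤ δ) :
    Module.length O (Ext (ModuleCat.of O (Box hO i δ (Nat.le_add_right _ _)))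
      (ModuleCat.of O (Box hO j δ (Nat.le_add_right _ _))) 1) = ((2 * min i j : ℕ) : ℕ∞) := by
  set M := Box hO i δ (Nat.le_add_right _ _) with hMdef
  set N := Box hO j δ (Nat.le_add_right _ _) with hNdef
  let s : P × P := (t ^ i, t ^ i)
  let r : P × P := (t ^ δ, 0)
  have hs : s ∈ M := ⟨dvd_rfl, by simp [s]⟩
  have hr : r ∈ M := ⟨pow_dvd_pow _ hi, by simp [r]⟩
  let π : (O × O) →ₗ[O] M :=
    (LinearMap.toSpanSingleton O M ⟨s, hs⟩).coprod (LinearMap.toSpanSingleton O M ⟨r, hr⟩)
  have hπ : ∀ x : O × O, (π x : P × P) = (x.1 : P × P) * s + (x.2 : P × P) * r := fun x => by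
    simp [π, Subalgebra.smul_def]
  have hπs : Function.Surjective π := by
    rintro ⟨y, hy⟩
    rw [hMdef, ← span_eq hO hi] at hy
    obtain ⟨x₁, x₂, rfl⟩ := Submodule.mem_span_pair.1 hy
    exact ⟨(x₁, x₂), Subtype.ext (by rw [hπ]; simp [Subalgebra.smul_def, s, r])⟩
  obtain ⟨d, hd⟩ := Nat.exists_eq_add_of_le hi
  have hm1 : ∀ x : M, ((-(t ^ d * (x : P × P).1), 0) : P × P) ∈ O := fun x => by
    obtain ⟨a, ha⟩ := x.2.1
    rw [ha, ← mul_assoc, ← pow_add, show d + i = δ by omega, ← mul_neg]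
    exact mem_left hO _
  have hm2 : ∀ x : M, (x : P × P) ∈ O := fun x => (hO _).2 x.2.2
  let ι : M →ₗ[O] O × O :=
    { toFun := fun x => (⟨_, hm1 x⟩, ⟨_, hm2 x⟩)
      map_add' := fun x y => Prod.ext
        (Subtype.ext (Prod.ext (show -(t ^ d * ((x : P × P).1 + (y : P × P).1)) =
          -(t ^ d * (x : P × P).1) + -(t ^ d * (y : P × P).1) by ring) (zero_add (0 : P)).symm))
        (Subtype.ext rfl)
      map_smul' := fun a x => Prod.ext
        (Subtype.ext (Prod.ext (show -(t ^ d * ((a : P × P).1 * (x : P × P).1)) =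
          (a : P × P).1 * -(t ^ d * (x : P × P).1) by ring) (mul_zero _).symm))
        (Subtype.ext rfl) }
  have hι : Function.Injective ι := fun x y h => Subtype.ext
    (congrArg (fun z : O × O => (z.2 : P × P)) h)
  have hex : Function.Exact ι π := by
    rintro ⟨b₀, b₁⟩
    constructor
    · intro h
      have h' := congrArg Subtype.val h
      rw [hπ] at h'
      have e2 : (b₀ : P × P).2 * t ^ i = 0 := by simpa [s, r] using congrArg Prod.snd h'
      have e1 : (b₀ : P × P).1 * t ^ i + (b₁ : P × P).1 * t ^ δ = 0 := by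
        simpa [s, r] using congrArg Prod.fst h'
      have hb2 : (b₀ : P × P).2 = 0 :=
        (mul_eq_zero.1 e2).resolve_right (pow_ne_zero i PowerSeries.X_ne_zero)
      have hb1 : (b₀ : P × P).1 = -(t ^ d * (b₁ : P × P).1) := by
        refine mul_left_cancel₀ (pow_ne_zero i PowerSeries.X_ne_zero) ?_
        rw [hd, pow_add] at e1
        linear_combination e1
      have hdiv : t ^ i ∣ (b₁ : P × P).1 := by
        obtain ⟨c, hc⟩ := (hO _).1 b₀.2
        rw [hb1, hb2, hd, pow_add] at hc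
        exact ⟨-c, mul_left_cancel₀ (pow_ne_zero d PowerSeries.X_ne_zero)
          (by linear_combination (-1 : P) * hc)⟩
      exact ⟨⟨(b₁ : P × P), hdiv, (hO _).1 b₁.2⟩,
        Prod.ext (Subtype.ext (Prod.ext hb1.symm hb2.symm)) (Subtype.ext rfl)⟩
    · rintro ⟨x, hx⟩
      apply Subtype.ext
      rw [← hx, hπ, ZeroMemClass.coe_zero]
      refine Prod.ext ?_ ?_
      · show -(t ^ d * (x : P × P).1) * t ^ i + (x : P × P).1 * t ^ δ = 0
        rw [hd, pow_add]; ring
      · show 0 * t ^ i + (x : P × P).2 * 0 = 0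
        ring
  obtain ⟨p, hp, hker⟩ := CAlgH3.exists_ext_one_presentation ↥N (K := M) (F := O × O) hι hπs hex
  rw [← (p.quotKerEquivOfSurjective hp).length_eq, hker]
  have hval : ∀ (φ : M →ₗ[O] N) (x : M),
      s * (φ x : P × P) = (x : P × P) * (φ ⟨s, hs⟩ : P × P) := by
    intro φ x
    have h2 : (⟨(x : P × P), hm2 x⟩ : O) • (⟨s, hs⟩ : M) =
        (⟨s, mem_diag hO _⟩ : O) • x := Subtype.ext (mul_comm (x : P × P) s)
    have h3 := congrArg (fun z => (φ z : P × P)) h2
    rw [φ.map_smul, φ.map_smul] at h3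
    exact h3.symm
  let α := j
  let β := δ + i - min i j
  have hβ : δ + i - min i j ≤ δ + max i j := by omega
  let MH := Box hO (max i j) δ (Nat.le_add_right _ _)
  have hvH : ∀ φ : M →ₗ[O] N, (φ ⟨s, hs⟩ : P × P) ∈ MH := by
    intro φ
    refine ⟨?_, (φ ⟨s, hs⟩).2.2⟩
    rcases le_total i j with hij | hij
    · rw [max_eq_right hij]; exact (φ ⟨s, hs⟩).2.1
    · rw [max_eq_left hij]
      have h := congrArg Prod.fst (hval φ ⟨r, hr⟩)
      have h2 := congrArg Prod.snd (hval φ ⟨r, hr⟩)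
      simp [s, r] at h h2
      obtain ⟨c, hc⟩ := (φ ⟨r, hr⟩).2.2
      rw [h2, sub_zero] at hc
      exact ⟨c, mul_left_cancel₀ (pow_ne_zero δ PowerSeries.X_ne_zero)
        (by linear_combination -h + t ^ i * hc)⟩
  let E : (M →ₗ[O] N) →ₗ[O] MH :=
    { toFun := fun φ => ⟨_, hvH φ⟩
      map_add' := fun φ ψ => rfl
      map_smul' := fun a φ => rfl }
  have hscancel : ∀ {a b : P × P}, s * a = s * b → a = b := fun {a b} h =>
    Prod.ext (mul_left_cancel₀ (pow_ne_zero i PowerSeries.X_ne_zero) (congrArg Prod.fst h))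
      (mul_left_cancel₀ (pow_ne_zero i PowerSeries.X_ne_zero) (congrArg Prod.snd h))
  have hEinj : Function.Injective E := fun φ ψ h => LinearMap.ext fun x => Subtype.ext (by
    refine hscancel ?_
    rw [hval φ, hval ψ]
    exact congrArg (fun z : MH => (x : P × P) * (z : P × P)) h)
  have hEsurj : Function.Surjective E := by
    rintro ⟨u, hu1, hu2⟩
    have hex2 : ∀ x : M, ∃ y : N, s * (y : P × P) = (x : P × P) * u := by
      intro x
      obtain ⟨⟨a, ha⟩, ⟨b, hb⟩⟩ := x.2
      obtain ⟨v, hv⟩ := hu1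
      obtain ⟨w, hw⟩ := hu2
      obtain ⟨e, he⟩ := Nat.exists_eq_add_of_le (le_max_left i j)
      obtain ⟨f, hf⟩ := Nat.exists_eq_add_of_le (le_max_right i j)
      have x2 : (x : P × P).2 = t ^ i * (a - t ^ d * b) := by
        rw [show (x : P × P).2 = (x : P × P).1 - ((x : P × P).1 - (x : P × P).2) by ring, hb, ha,
          hd, pow_add]
        ring
      refine ⟨⟨(a * u.1, (a - t ^ d * b) * u.2), ?_, ?_⟩, ?_⟩
      · exact ((pow_dvd_pow _ (le_max_right i j)).trans ⟨v, hv⟩).mul_left a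
      · refine ⟨a * w + t ^ e * b * v - t ^ d * b * w, ?_⟩
        show a * u.1 - (a - t ^ d * b) * u.2 = _
        rw [show u.2 = u.1 - (u.1 - u.2) by ring, hw, hv, he, hd, pow_add, pow_add]
        ring
      · refine Prod.ext ?_ ?_
        · show t ^ i * (a * u.1) = (x : P × P).1 * u.1
          rw [ha]; ring
        · show t ^ i * ((a - t ^ d * b) * u.2) = (x : P × P).2 * u.2
          rw [x2]; ring
    choose Y hY using hex2
    let φ : M →ₗ[O] N :=
      { toFun := Y
        map_add' := fun x y => Subtype.ext (hscancel (by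
          rw [hY, Submodule.coe_add, Submodule.coe_add, add_mul, mul_add, hY, hY]))
        map_smul' := fun a x => Subtype.ext (hscancel (by
          rw [RingHom.id_apply, hY, Submodule.coe_smul, Submodule.coe_smul, Subalgebra.smul_def,
            Subalgebra.smul_def, smul_eq_mul, smul_eq_mul, mul_left_comm s, hY, mul_assoc])) }
    exact ⟨φ, Subtype.ext (hscancel ((hY ⟨s, hs⟩)))⟩
  let e := LinearEquiv.ofBijective E ⟨hEinj, hEsurj⟩
  have hmap : (LinearMap.range (ι.lcomp O ↥N)).map (e : _ →ₗ[O] MH) =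
      (Box hO (i + j) (δ + min i j) (by omega)).comap MH.subtype := by
    ext u
    constructor
    · rintro ⟨_, ⟨ψ, rfl⟩, rfl⟩
      show (ψ (ι ⟨s, hs⟩) : P × P) ∈ Box hO (i + j) (δ + min i j) (by omega)
      have : ι ⟨s, hs⟩ = (⟨_, hm1 ⟨s, hs⟩⟩ : O) • ((1, 0) : O × O) +
          (⟨_, hm2 ⟨s, hs⟩⟩ : O) • ((0, 1) : O × O) := by
        refine Prod.ext ?_ ?_ <;> simp [ι]
      rw [this, map_add, map_smul, map_smul]
      obtain ⟨⟨a, ha⟩, ⟨b, hb⟩⟩ := (ψ (1, 0)).2
      obtain ⟨⟨c, hc⟩, ⟨g, hg⟩⟩ := (ψ (0, 1)).2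
      constructor
      · simp [Subalgebra.smul_def, s, ha, hc]
        refine dvd_add ?_ ?_
        · exact ⟨-(t ^ d * a), by rw [pow_add]; ring⟩
        · exact ⟨c, by rw [pow_add]; ring⟩
      · simp [Subalgebra.smul_def, s]
        rw [show -(t ^ d * t ^ i * (ψ (1, 0) : P × P).1) + t ^ i * (ψ (0, 1) : P × P).1 -
          t ^ i * (ψ (0, 1) : P × P).2 = -(t ^ d * t ^ i * (ψ (1, 0) : P × P).1) +
          t ^ i * ((ψ (0, 1) : P × P).1 - (ψ (0, 1) : P × P).2) by ring, hg, ha]
        refine dvd_add (dvd_neg.2 ?_) ?_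
        · rw [← mul_assoc, ← pow_add, ← pow_add]
          exact (pow_dvd_pow _ (by omega)).mul_right _
        · rw [← mul_assoc, ← pow_add]
          exact (pow_dvd_pow _ (by omega)).mul_right _
    · rintro ⟨⟨v, hv⟩, ⟨w, hw⟩⟩
      simp only [Submodule.subtype_apply] at hv hw
      have hu2 : (u : P × P).2 = (u : P × P).1 - t ^ (δ + min i j) * w := by rw [← hw]; ring
      rcases le_total i j with hij | hij
      · obtain ⟨n₁, hn⟩ : ∃ n₁ : N, (n₁ : P × P) =
            (t ^ j * v, t ^ j * v - t ^ δ * w) := ⟨⟨_, dvd_mul_right _ _, ⟨w, by ring⟩⟩, rfl⟩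
        refine ⟨ι.lcomp O _ ((0 : O →ₗ[O] N).coprod (LinearMap.toSpanSingleton O N n₁)),
          ⟨_, rfl⟩, Subtype.ext ?_⟩
        show ((((0 : O →ₗ[O] N).coprod (LinearMap.toSpanSingleton O N n₁)) (ι ⟨s, hs⟩) : N) :
          P × P) = _
        simp [Subalgebra.smul_def, ι, hn]
        rw [min_eq_left hij] at hu2
        refine Prod.ext ?_ ?_
        · show t ^ i * (t ^ j * v) = (u : P × P).1
          rw [hv, pow_add]; ring
        · show t ^ i * (t ^ j * v - t ^ δ * w) = (u : P × P).2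
          rw [hu2, hv, pow_add, pow_add]; ring
      · obtain ⟨m, hm⟩ := Nat.exists_eq_add_of_le hij
        obtain ⟨n₁, hn⟩ : ∃ n₁ : N, (n₁ : P × P) =
            (t ^ j * (v - t ^ d * w), t ^ j * (v - t ^ d * w)) :=
          ⟨⟨_, dvd_mul_right _ _, by simp⟩, rfl⟩
        obtain ⟨n₀, hn₀⟩ : ∃ n₀ : N, (n₀ : P × P) = (-(t ^ j * w), -(t ^ j * w)) :=
          ⟨⟨_, dvd_neg.2 (dvd_mul_right _ _), by simp⟩, rfl⟩
        refine ⟨ι.lcomp O _ ((LinearMap.toSpanSingleton O N n₀).coprod
          (LinearMap.toSpanSingleton O N n₁)), ⟨_, rfl⟩, Subtype.ext ?_⟩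
        show ((((LinearMap.toSpanSingleton O N n₀).coprod
          (LinearMap.toSpanSingleton O N n₁)) (ι ⟨s, hs⟩) : N) : P × P) = _
        simp [Subalgebra.smul_def, ι, hn, hn₀]
        rw [min_eq_right hij] at hu2
        refine Prod.ext ?_ ?_
        · simp [s]
          rw [hv, pow_add]; ring
        · simp [s]
          rw [hu2, hv, hd, pow_add, pow_add, pow_add]; ring
  rw [(Submodule.Quotient.equiv _ _ e hmap).length_eq]
  have key : ∀ {A' B' : ℕ} (h' : B' ≤ δ + A'), A' = max i j + min i j → B' = δ + min i j →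
      Module.length O (MH ⧸ (Box hO A' B' h').comap MH.subtype) = ((2 * min i j : ℕ) : ℕ∞) := by
    rintro A' B' h' rfl rfl
    rw [two_mul]
    exact length_box hO hδ _ δ _ (min i j) (min i j) h'
  exact key _ (max_add_min i j).symm rfl

end Groth.Agent.CubicalExt15.TwoBranch
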