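import Groth.Agent.CubicalExt15.Monomial

/-! The semigroups of the singularities `A_{2δ}` and `E₆`. -/

set_option autoImplicit false
set_option backward.isDefEq.respectTransparency false
set_option synthInstance.maxHeartbeats 200000

universe u

open CategoryTheory CategoryTheory.Abelian

namespace Groth.Agent.CubicalExt15.Monomial

variable {k : Type u} [Field k] {A : Subalgebra k (PowerSeries k)}

theorem mem_closure_two (δ e : ℕ) :
    e ∈ AddSubmonoid.closure ({2, 2 * δ + 1} : Set ℕ) ↔ (e % 2 = 0 ∨ 2 * δ ≤ e) := by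
  constructor
  · intro h
    induction h using AddSubmonoid.closure_induction with
    | mem x hx => rcases hx with rfl | rfl <;> omega
    | zero => exact Or.inl rfl
    | add x y _ _ hx hy => omega
  · intro h
    have h2 : ∀ m, 2 * m ∈ AddSubmonoid.closure ({2, 2 * δ + 1} : Set ℕ) := fun m => by
      have := AddSubmonoid.nsmul_mem (AddSubmonoid.closure ({2, 2 * δ + 1} : Set ℕ))
        (AddSubmonoid.subset_closure (Or.inl rfl) : (2 : ℕ) ∈ _) m
      rwa [smul_eq_mul, Nat.mul_comm m 2] at this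
    rcases Nat.even_or_odd e with ⟨m, rfl⟩ | ⟨m, rfl⟩
    · rw [← two_mul]; exact h2 m
    · obtain ⟨l, rfl⟩ := Nat.exists_eq_add_of_le (show δ ≤ m by omega)
      rw [show 2 * (δ + l) + 1 = (2 * δ + 1) + 2 * l by ring]
      exact add_mem (AddSubmonoid.subset_closure (Or.inr rfl)) (h2 l)

theorem mem_closure_three_four (e : ℕ) :
    e ∈ AddSubmonoid.closure ({3, 4} : Set ℕ) ↔ (e ≠ 1 ∧ e ≠ 2 ∧ e ≠ 5) := by
  constructor
  · intro h
    induction h using AddSubmonoid.closure_induction with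
    | mem x hx => rcases hx with rfl | rfl <;> omega
    | zero => omega
    | add x y _ _ hx hy => omega
  · intro h
    obtain ⟨p, q, rfl⟩ : ∃ p q, e = 3 * p + 4 * q := by
      obtain hr | hr | hr : e % 3 = 0 ∨ e % 3 = 1 ∨ e % 3 = 2 := by omega
      · exact ⟨e / 3, 0, by omega⟩
      · exact ⟨(e - 4) / 3, 1, by omega⟩
      · exact ⟨(e - 8) / 3, 2, by omega⟩
    refine add_mem ?_ ?_
    · have := AddSubmonoid.nsmul_mem (AddSubmonoid.closure ({3, 4} : Set ℕ))
        (AddSubmonoid.subset_closure (Or.inl rfl) : (3 : ℕ) ∈ _) p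
      rwa [smul_eq_mul, mul_comm] at this
    · have := AddSubmonoid.nsmul_mem (AddSubmonoid.closure ({3, 4} : Set ℕ))
        (AddSubmonoid.subset_closure (Or.inr rfl) : (4 : ℕ) ∈ _) q
      rwa [smul_eq_mul, mul_comm] at this

theorem mem_pair_two {δ i : ℕ} (hi : i ≤ δ) (e : ℕ) :
    (e ∈ AddSubmonoid.closure ({2, 2 * δ + 1} : Set ℕ) ∨
      ∃ s ∈ AddSubmonoid.closure ({2, 2 * δ + 1} : Set ℕ), e = 2 * δ + 1 - 2 * i + s) ↔
      (e % 2 = 0 ∨ 2 * δ - 2 * i ≤ e) := by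
  simp only [mem_closure_two]
  constructor
  · rintro (h | ⟨s, hs, rfl⟩) <;> omega
  · intro h
    by_cases he : e % 2 = 0
    · exact Or.inl (Or.inl he)
    · exact Or.inr ⟨e - (2 * δ + 1 - 2 * i), Or.inl (by omega), by omega⟩

theorem length_ext_two (δ i j : ℕ) (hi : i ≤ δ) (hj : j ≤ δ)
    (hA : IsMonomial (AddSubmonoid.closure ({2, 2 * δ + 1} : Set ℕ)) A) :
    Module.length A (Ext (ModuleCat.of A (Submodule.span A
      ({1, (PowerSeries.X : PowerSeries k) ^ (2 * δ + 1 - 2 * i)} : Set (PowerSeries k))))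
      (ModuleCat.of A (Submodule.span A
      ({1, (PowerSeries.X : PowerSeries k) ^ (2 * δ + 1 - 2 * j)} : Set (PowerSeries k)))) 1) =
      ((2 * min i j : ℕ) : ℕ∞) := by
  classical
  obtain ⟨q, hq⟩ : ∃ q, q = min i j := ⟨_, rfl⟩
  rw [← hq]
  rw [length_ext_pair hA (2 * δ) (fun e he => (mem_closure_two δ e).2 (Or.inr he))
    (2 * δ + 1 - 2 * i) (2 * i) _ (stable_pair (2 * δ + 1 - 2 * i)) (Or.inl (zero_mem _))
    (fun e => ?_) _ (stable_pair (2 * δ + 1 - 2 * j)) _ (span_pair_eq hA _)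
    ((Finset.range q).image (fun r => 2 * (i - q) + 2 * r) ∪
      (Finset.range q).image (fun r => 2 * δ - 2 * j + 1 + 2 * r)) (fun e => ?_)]
  · rw [Finset.card_union_of_disjoint, Finset.card_image_of_injective,
      Finset.card_image_of_injective, Finset.card_range, ← two_mul]
    · intro x y h; simpa using h
    · intro x y h; simpa using h
    · rw [Finset.disjoint_left]
      intro x hx hx'
      simp only [Finset.mem_image, Finset.mem_range] at hx hx'
      obtain ⟨a, _, rfl⟩ := hx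
      obtain ⟨b, _, hb⟩ := hx'
      omega
  · have key : ∀ s, s ∈ {e | e ∈ AddSubmonoid.closure ({2, 2 * δ + 1} : Set ℕ) ∨
        ∃ s ∈ AddSubmonoid.closure ({2, 2 * δ + 1} : Set ℕ), e = 2 * δ + 1 - 2 * i + s} ↔
        (s % 2 = 0 ∨ 2 * δ - 2 * i ≤ s) := mem_pair_two hi
    rw [exists_congr fun s => and_congr_left' (key s), mem_closure_two, mem_closure_two]
    constructor
    · intro h
      clear hq
      have hle : 2 * i ≤ e := by
        rcases Nat.even_or_odd e with ⟨m, rfl⟩ | ⟨m, rfl⟩ <;> omega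
      obtain ⟨s, rfl⟩ := Nat.exists_eq_add_of_le hle
      refine ⟨s, ?_, rfl⟩
      rcases Nat.even_or_odd s with ⟨m, rfl⟩ | ⟨m, rfl⟩ <;> omega
    · rintro ⟨s, hs, rfl⟩
      omega
  · have ki : ∀ s, s ∈ {e | e ∈ AddSubmonoid.closure ({2, 2 * δ + 1} : Set ℕ) ∨
        ∃ s ∈ AddSubmonoid.closure ({2, 2 * δ + 1} : Set ℕ), e = 2 * δ + 1 - 2 * i + s} ↔
        (s % 2 = 0 ∨ 2 * δ - 2 * i ≤ s) := mem_pair_two hi
    have kj : ∀ s, s ∈ {e | e ∈ AddSubmonoid.closure ({2, 2 * δ + 1} : Set ℕ) ∨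
        ∃ s ∈ AddSubmonoid.closure ({2, 2 * δ + 1} : Set ℕ), e = 2 * δ + 1 - 2 * j + s} ↔
        (s % 2 = 0 ∨ 2 * δ - 2 * j ≤ s) := mem_pair_two hj
    rw [show (∀ s ∈ _, e + s ∈ _) ↔ (∀ s, (s % 2 = 0 ∨ 2 * δ - 2 * i ≤ s) →
        ((e + s) % 2 = 0 ∨ 2 * δ - 2 * j ≤ e + s)) from forall_congr' fun s =>
        imp_congr (ki s) (kj _), exists_congr fun s => and_congr_left' (kj s),
      exists_congr fun s => and_congr_left' (kj s)]
    simp only [Finset.mem_union,
      Finset.mem_image, Finset.mem_range]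
    constructor
    · rintro (⟨r, hr, rfl⟩ | ⟨r, hr, rfl⟩) <;> refine ⟨fun s hs => by omega, ?_⟩ <;>
        rintro (⟨s, hs, he⟩ | ⟨s, hs, he⟩) <;> omega
    · rintro ⟨h, hn⟩
      push Not at hn
      have h0 := h 0 (Or.inl rfl)
      have h1 := h (2 * δ + 1 - 2 * i) (Or.inr (by omega))
      by_cases he : e % 2 = 0
      · refine Or.inl ⟨e / 2 - (i - q), ?_, ?_⟩
        · by_contra hlt
          by_cases hle : 2 * i ≤ e
          · exact hn.1 (e - 2 * i) (Or.inl (by omega)) (by omega)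
          · omega
        · omega
      · refine Or.inr ⟨(e - (2 * δ - 2 * j + 1)) / 2, ?_, by omega⟩
        by_contra hlt
        by_cases hle : i ≤ j
        · exact hn.1 (e - 2 * i) (Or.inr (by omega)) (by omega)
        · exact hn.2 (e - (2 * i + (2 * δ + 1 - 2 * i))) (Or.inl (by omega)) (by omega)

theorem length_ext_self {Γ : AddSubmonoid ℕ} (hA : IsMonomial Γ A) (c g a : ℕ)
    (hc : ∀ e, c ≤ e → e ∈ Γ) (T : Set ℕ) (hT : Stable Γ T) (hT0 : (0 : ℕ) ∈ T)
    (hKT : ∀ e, (e ∈ Γ ∧ e + g ∈ Γ) ↔ ∃ s ∈ T, e = a + s) (D : Finset ℕ)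
    (hD : ∀ e, e ∈ D ↔ (∀ s ∈ T, e + s ∈ {e | e ∈ Γ ∨ ∃ s ∈ Γ, e = g + s}) ∧
      ¬((∃ s ∈ {e | e ∈ Γ ∨ ∃ s ∈ Γ, e = g + s}, e = a + s) ∨
        ∃ s ∈ {e | e ∈ Γ ∨ ∃ s ∈ Γ, e = g + s}, e = a + g + s)) :
    Module.length A (Ext (ModuleCat.of A (Submodule.span A
      ({1, (PowerSeries.X : PowerSeries k) ^ g} : Set (PowerSeries k))))
      (ModuleCat.of A (Submodule.span A
      ({1, (PowerSeries.X : PowerSeries k) ^ g} : Set (PowerSeries k)))) 1) = (D.card : ℕ∞) :=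
  length_ext_pair hA c hc g a T hT hT0 hKT _ (stable_pair g) _ (span_pair_eq hA g) D hD

end Groth.Agent.CubicalExt15.Monomial
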